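import Mathlib
import Cfsg.Agent.DefectOne.Coeff
import Cfsg.Agent.CharBasics.Extra
import Cfsg.Agent.Blocks.Central

/-!
General tools for groups whose order is less than the cube of a prime divisor: the number of factorisations of an
element in two members of a class, the values at an involution inverting an element of odd prime order, and groups
with many elements of square one.
-/

set_option autoImplicit false
set_option linter.style.haveILetI false

namespace CfsgLib.BrauerReynolds

open Cfsg CfsgLib.CharBasics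
open scoped ComplexConjugate

universe u

variable {G : Type u} [Group G] [Fintype G]

/-- The number of factorisations of `y` in two conjugates of `a`. -/
theorem card_pairs [Fintype (IrrCharacter G)] (a y : G) :
    (Nat.card {b : G // IsConj b a ∧ IsConj (b⁻¹ * y) a} : ℂ) *
        (Nat.card (Subgroup.centralizer ({a} : Set G)) : ℂ) ^ 2 =
      (Nat.card G : ℂ) * ∑ χ : IrrCharacter G,
        conj ((χ : G → ℂ) a) ^ 2 * (χ : G → ℂ) y / (χ : G → ℂ) 1 := by
  classical
  set c : ℂ := (Nat.card (Subgroup.centralizer ({a} : Set G)) : ℂ) with hc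
  have hcol : ∀ b : G, (if IsConj b a then c else 0) =
      ∑ χ : IrrCharacter G, (χ : G → ℂ) b * conj ((χ : G → ℂ) a) := fun b => by
    rw [sum_col b a]
    split_ifs with h
    · rw [hc, Blocks.card_centralizer_eq h]
    · rfl
  calc (Nat.card {b : G // IsConj b a ∧ IsConj (b⁻¹ * y) a} : ℂ) * c ^ 2
      = ∑ b : G, (if IsConj b a then c else 0) * (if IsConj (b⁻¹ * y) a then c else 0) := by
        rw [Nat.card_eq_fintype_card, Fintype.card_subtype, ← Finset.sum_boole, Finset.sum_mul]
        refine Finset.sum_congr rfl fun b _ => ?_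
        by_cases h1 : IsConj b a
        · by_cases h2 : IsConj (b⁻¹ * y) a
          · rw [if_pos ⟨h1, h2⟩, if_pos h1, if_pos h2, one_mul, sq]
          · rw [if_neg (fun h => h2 h.2), if_neg h2, zero_mul, mul_zero]
        · rw [if_neg (fun h => h1 h.1), if_neg h1, zero_mul, zero_mul]
    _ = ∑ χ : IrrCharacter G, ∑ ψ : IrrCharacter G, conj ((χ : G → ℂ) a) * conj ((ψ : G → ℂ) a) *
          ∑ b : G, (χ : G → ℂ) b * (ψ : G → ℂ) (b⁻¹ * y) := by
        simp only [hcol, Finset.mul_sum, Finset.sum_mul]
        rw [Finset.sum_comm]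
        refine (Finset.sum_congr rfl fun ψ _ => Finset.sum_comm).trans ?_
        rw [Finset.sum_comm]
        refine Finset.sum_congr rfl fun χ _ => Finset.sum_congr rfl fun ψ _ => Finset.sum_congr rfl fun b _ => ?_
        ring
    _ = _ := by
        rw [Finset.mul_sum]
        refine Finset.sum_congr rfl fun χ _ => ?_
        have key : ∀ ψ : IrrCharacter G, ∑ b : G, (χ : G → ℂ) b * (ψ : G → ℂ) (b⁻¹ * y) =
            (if χ = ψ then (Nat.card G : ℂ) * (ψ : G → ℂ) y else 0) / (ψ : G → ℂ) 1 := fun ψ => by
          rw [eq_div_iff (apply_one_ne_zero ψ.2), mul_comm, conv_irr]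
        simp only [key]
        rw [Finset.sum_eq_single χ]
        · rw [if_pos rfl]; ring
        · intro ψ _ hψ
          rw [if_neg hψ.symm]; simp
        · simp

/-- At an involution inverting an element `x` of odd prime order the value of a character is an integer bounded
by the dimension of the fixed space of `x`. -/
theorem exists_int_of_inverting {p : ℕ} [Fact p.Prime] {x z : G} (hx : orderOf x = p) (hp2 : p ≠ 2)
    (hzz : z * z = 1) (hzx : z * x * z = x⁻¹) {χ : G → ℂ} (hχ : IsCharacter G χ) :
    ∃ u : ℤ, χ z = (u : ℂ) ∧ ∃ m : ℕ, (∑ i : ZMod p, χ (x ^ i.val)) = (p : ℂ) * m ∧ |u| ≤ m ∧ 2 ∣ (m : ℤ) + u := by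
  classical
  have hp : p.Prime := Fact.out
  let P : ZMod p → G := fun i => x ^ i.val
  have hPadd : ∀ i j, P (i + j) = P i * P j := fun i j => by
    simp only [P, ← pow_add]
    rw [pow_eq_pow_iff_modEq, hx, ← ZMod.natCast_eq_natCast_iff]
    simp
  have hP0 : P 0 = 1 := by simp [P]
  have hPneg : ∀ i, P (-i) = (P i)⁻¹ := fun i =>
    eq_inv_of_mul_eq_one_left (by rw [← hPadd, neg_add_cancel, hP0])
  have hzinv : z⁻¹ = z := inv_eq_of_mul_eq_one_right hzz
  have hPz : ∀ i, z * P i * z = P (-i) := fun i => by
    rw [hPneg]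
    simp only [P]
    rw [← inv_pow, ← hzx]
    conv_rhs => rw [show z * x * z = z * x * z⁻¹ by rw [hzinv], _root_.conj_pow, hzinv]
  have hzP : ∀ i, z * P i = P (-i) * z := fun i => by
    rw [← hPz i, mul_assoc _ z z, hzz, mul_one]
  -- all the elements `z * P i` are conjugate
  have hconj : ∀ i, χ (z * P i) = χ z := by
    intro i
    obtain ⟨j, rfl⟩ : ∃ j : ZMod p, i = 2 * j := by
      have h2 : (2 : ZMod p) ≠ 0 := fun h => hp2 (by
        have h' : ((2 : ℕ) : ZMod p) = 0 := by exact_mod_cast h
        rw [ZMod.natCast_eq_zero_iff] at h'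
        exact (Nat.prime_dvd_prime_iff_eq hp Nat.prime_two).1 h')
      exact ⟨2⁻¹ * i, by rw [mul_inv_cancel_left₀ h2]⟩
    have e : z * P (2 * j) = (P j)⁻¹ * z * P j := by
      rw [two_mul, hPadd, ← mul_assoc, hzP, hPneg]
    rw [e, CharBasics.apply_conj' hχ]
  let F : DihedralGroup p → G := fun g => match g with
    | .r i => P i
    | .sr i => z * P i
  let f : DihedralGroup p →* G := MonoidHom.mk' F fun a b => by
    cases a <;> cases b
    · exact hPadd _ _
    · rename_i i j
      show z * P (j - i) = P i * (z * P j)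
      rw [← mul_assoc, show P i * z = z * P (-i) by rw [hzP, neg_neg], mul_assoc, ← hPadd, neg_add_eq_sub]
    · rename_i i j
      show z * P (i + j) = z * P i * P j
      rw [hPadd, mul_assoc]
    · rename_i i j
      show P (j - i) = z * P i * (z * P j)
      rw [hzP i, mul_assoc, ← mul_assoc z z, hzz, one_mul, ← hPadd, neg_add_eq_sub]
  let sg : DihedralGroup p →* ℂ :=
    { toFun := fun g => match g with
        | .r _ => 1
        | .sr _ => -1
      map_one' := rfl
      map_mul' := fun a b => by cases a <;> cases b <;> simp }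
  haveI : NeZero p := ⟨hp.ne_zero⟩
  have hcard : (Nat.card (DihedralGroup p) : ℂ) = 2 * p := by rw [DihedralGroup.nat_card]; push_cast; rfl
  have hsum : ∀ φ : DihedralGroup p → ℂ, ∑ g, φ g = ∑ i, φ (.r i) + ∑ i, φ (.sr i) := fun φ => by
    rw [← Equiv.sum_comp DihedralGroup.equivSum.symm, Fintype.sum_sum_type]
    rfl
  have hres := CharBasics.isCharacter_comp hχ f
  obtain ⟨a, ha⟩ := classInner_characters_nat hres (isCharacter_of_irr isIrrCharacter_one)
  obtain ⟨b, hb⟩ := classInner_characters_nat hres (Exceptional.isCharacter_monoidHom sg)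
  have hs1 : ∀ i, sg (.r i) = 1 := fun _ => rfl
  have hs2 : ∀ i, sg (.sr i) = -1 := fun _ => rfl
  rw [classInner_eq, hsum, hcard] at ha hb
  simp only [hs1, hs2, map_one, mul_one, map_neg, mul_neg] at ha hb
  simp only [f, F, MonoidHom.mk'_apply, hconj, Finset.sum_neg_distrib, Finset.sum_const, Finset.card_univ, ZMod.card,
    nsmul_eq_mul, mul_one] at ha hb
  have hp0 : (p : ℂ) ≠ 0 := Nat.cast_ne_zero.2 hp.ne_zero
  refine ⟨(a : ℤ) - b, ?_, a + b, ?_, ?_, ⟨a, by push_cast; ring⟩⟩
  · push_cast
    rw [← ha, ← hb]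
    field_simp
    ring
  · rw [← mul_right_inj' (two_ne_zero (α := ℂ))]
    push_cast
    rw [← ha, ← hb]
    simp only [P]
    field_simp
    ring
  · push_cast
    rw [abs_le]
    omega

omit [Fintype G] in
/-- If more than three quarters of a finite group square to one then all of it does. -/
theorem sq_eq_one_of_many [Finite G] (h : 3 * Nat.card G < 4 * Nat.card {t : G // t * t = 1}) :
    ∀ g : G, g * g = 1 := by
  classical
  haveI := Fintype.ofFinite G
  let T : Finset G := Finset.univ.filter fun t => t * t = 1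
  have hT : Nat.card {t : G // t * t = 1} = T.card := by
    rw [Nat.card_eq_fintype_card, Fintype.card_subtype]
  rw [hT, Nat.card_eq_fintype_card] at h
  have hmemT : ∀ {t : G}, t ∈ T ↔ t * t = 1 := by simp [T]
  have hcen : ∀ t ∈ T, t ∈ Subgroup.center G := by
    intro t ht
    have ht' := hmemT.1 ht
    have hinv : t⁻¹ = t := inv_eq_of_mul_eq_one_right ht'
    let S := T ∩ T.image (fun s => t * s)
    have h1 : Fintype.card G < 2 * S.card := by
      have h2 : (T ∪ T.image (fun s => t * s)).card ≤ Fintype.card G := Finset.card_le_univ _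
      have h3 := Finset.card_union_add_card_inter T (T.image fun s => t * s)
      rw [Finset.card_image_of_injective _ (mul_right_injective t)] at h3
      show _ < 2 * (T ∩ T.image fun s => t * s).card
      omega
    have hS : ∀ u ∈ S, u ∈ Subgroup.centralizer ({t} : Set G) := by
      intro u hu
      obtain ⟨hu1, hu2⟩ := Finset.mem_inter.1 hu
      obtain ⟨s, hs, rfl⟩ := Finset.mem_image.1 hu2
      rw [Subgroup.mem_centralizer_singleton_iff]
      have e1 := hmemT.1 hu1
      have e2 := hmemT.1 hs
      have e3 : s * t = t * s := by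
        calc s * t = (t * t) * s * t * (s * s) := by rw [ht', e2, one_mul, mul_one]
          _ = t * (t * s * (t * s)) * s := by group
          _ = t * s := by rw [e1, mul_one]
      rw [mul_assoc, e3]
    have h4 : S.card ≤ Nat.card (Subgroup.centralizer ({t} : Set G)) := by
      rw [← Nat.card_eq_finsetCard S]
      exact Nat.card_le_card_of_injective (fun u : S => (⟨u.1, hS _ u.2⟩ : Subgroup.centralizer ({t} : Set G)))
        fun a b e => Subtype.ext (congrArg (fun v : Subgroup.centralizer ({t} : Set G) => (v : G)) e)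
    have h5 : (Subgroup.centralizer ({t} : Set G)) = ⊤ := by
      refine Subgroup.index_eq_one.1 ?_
      have h6 := Subgroup.card_mul_index (Subgroup.centralizer ({t} : Set G))
      rw [Nat.card_eq_fintype_card (α := G)] at h6
      have h7 : (Subgroup.centralizer ({t} : Set G)).index ≠ 0 := Subgroup.index_ne_zero_of_finite
      by_contra h8
      have h9 : 2 * Nat.card (Subgroup.centralizer ({t} : Set G)) ≤ Fintype.card G := by
        rw [← h6, mul_comm]
        exact Nat.mul_le_mul_left _ (by omega)
      omega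
    refine Subgroup.mem_center_iff.2 fun g => ?_
    exact Subgroup.mem_centralizer_singleton_iff.1 (h5 ▸ Subgroup.mem_top g)
  let H : Subgroup G :=
    { carrier := {g | g * g = 1 ∧ g ∈ Subgroup.center G}
      one_mem' := ⟨one_mul 1, one_mem _⟩
      mul_mem' := fun {a b} ha hb => ⟨by
        rw [mul_assoc a b, ← mul_assoc b a b, Subgroup.mem_center_iff.1 ha.2 b, mul_assoc a b b, hb.1, mul_one, ha.1],
        mul_mem ha.2 hb.2⟩
      inv_mem' := fun {a} ha => ⟨by rw [← mul_inv_rev, ha.1, inv_one], inv_mem ha.2⟩ }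
  have hH : H = ⊤ := by
    refine Subgroup.index_eq_one.1 ?_
    have h4 : T.card ≤ Nat.card H := by
      rw [← Nat.card_eq_finsetCard T]
      exact Nat.card_le_card_of_injective (fun u : T => (⟨u.1, hmemT.1 u.2, hcen _ u.2⟩ : H))
        fun a b e => Subtype.ext (congrArg (fun v : H => (v : G)) e)
    have h6 := Subgroup.card_mul_index H
    rw [Nat.card_eq_fintype_card (α := G)] at h6
    have h7 : H.index ≠ 0 := Subgroup.index_ne_zero_of_finite
    by_contra h8
    have h9 : 2 * Nat.card H ≤ Fintype.card G := by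
      rw [← h6, mul_comm]
      exact Nat.mul_le_mul_left _ (by omega)
    omega
  intro g
  exact (show g ∈ H from hH ▸ Subgroup.mem_top g).1

omit [Fintype G] in
/-- If more than two thirds of a finite group square to one then its order is prime to three. -/
theorem not_three_dvd_of_many [Finite G] (h : 2 * Nat.card G < 3 * Nat.card {t : G // t * t = 1}) :
    ¬ 3 ∣ Nat.card G := by
  classical
  intro h3
  haveI := Fintype.ofFinite G
  haveI : Fact (Nat.Prime 3) := ⟨Nat.prime_three⟩
  obtain ⟨y, hy⟩ := exists_prime_orderOf_dvd_card' 3 h3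
  have hy3 : y ^ 3 = 1 := hy ▸ pow_orderOf_eq_one y
  have hy1 : y ≠ 1 := fun e => by rw [e, orderOf_one] at hy; omega
  let T : Finset G := Finset.univ.filter fun t => t * t = 1
  have hT : Nat.card {t : G // t * t = 1} = T.card := by
    rw [Nat.card_eq_fintype_card, Fintype.card_subtype]
  rw [hT, Nat.card_eq_fintype_card] at h
  have hmemT : ∀ {t : G}, t ∈ T ↔ t * t = 1 := by simp [T]
  set C := Subgroup.centralizer ({y} : Set G)
  have hS : Fintype.card G < 3 * (T ∩ T.image (fun s => y * s)).card := by
    have h2 : (T ∪ T.image (fun s => y * s)).card ≤ Fintype.card G := Finset.card_le_univ _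
    have h3 := Finset.card_union_add_card_inter T (T.image fun s => y * s)
    rw [Finset.card_image_of_injective _ (mul_right_injective y)] at h3
    omega
  -- members of the intersection invert `y`
  have hinv : ∀ t ∈ T ∩ T.image (fun s => y * s), t * y * t⁻¹ = y⁻¹ ∧ t * t = 1 := by
    intro t ht
    obtain ⟨ht1, ht2⟩ := Finset.mem_inter.1 ht
    obtain ⟨s, hs, rfl⟩ := Finset.mem_image.1 ht2
    have e1 := hmemT.1 ht1
    have e2 := hmemT.1 hs
    refine ⟨?_, e1⟩
    calc y * s * y * (y * s)⁻¹ = y⁻¹ * (y * (y * s * (y * s)) * s⁻¹ * s⁻¹ * y⁻¹) := by group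
      _ = y⁻¹ := by
        rw [e1, mul_one, mul_assoc y, ← mul_inv_rev, e2, inv_one, mul_one, mul_inv_cancel, mul_one]
  have hne : (T ∩ T.image (fun s => y * s)).Nonempty := Finset.card_pos.1 (by omega)
  obtain ⟨t₀, ht₀⟩ := hne
  obtain ⟨e0, e0'⟩ := hinv t₀ ht₀
  have hnC : t₀ ∉ C := fun hc => by
    rw [Subgroup.mem_centralizer_singleton_iff.1 hc, mul_inv_cancel_right] at e0
    have hy2 : y ^ 2 = 1 := by rw [sq]; nth_rewrite 2 [e0]; exact mul_inv_cancel y
    have := Nat.dvd_gcd (orderOf_dvd_of_pow_eq_one hy2) (orderOf_dvd_of_pow_eq_one hy3)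
    rw [hy] at this
    norm_num at this
  have hle : (T ∩ T.image (fun s => y * s)).card ≤ Nat.card C := by
    rw [← Nat.card_eq_finsetCard (T ∩ T.image (fun s => y * s))]
    refine Nat.card_le_card_of_injective (fun u : (T ∩ T.image (fun s => y * s) : Finset G) =>
      (⟨t₀⁻¹ * u.1, ?_⟩ : C)) fun a b e => Subtype.ext (mul_left_cancel
        (congrArg (fun v : C => (v : G)) e))
    obtain ⟨e, e'⟩ := hinv u.1 u.2
    have e1 : (u.1 : G) * y = y⁻¹ * u.1 := mul_inv_eq_iff_eq_mul.1 e
    have e2 : t₀⁻¹ * y⁻¹ = y * t₀⁻¹ := by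
      rw [← e0]; group
    rw [Subgroup.mem_centralizer_singleton_iff, mul_assoc, e1, ← mul_assoc, e2, mul_assoc]
  have hidx : C.index = 2 := by
    have h6 := Subgroup.card_mul_index C
    rw [Nat.card_eq_fintype_card (α := G)] at h6
    have h7 : C.index ≠ 0 := Subgroup.index_ne_zero_of_finite
    have h8 : C.index ≠ 1 := fun e => hnC ((Subgroup.index_eq_one.1 e) ▸ Subgroup.mem_top _)
    by_contra h9
    have h10 : 3 * Nat.card C ≤ Fintype.card G := by
      rw [← h6, mul_comm]
      exact Nat.mul_le_mul_left _ (by omega)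
    omega
  -- at most a third of the centralizer squares to one
  set U := T.filter (fun t => t ∈ C)
  have hU : 3 * U.card ≤ Nat.card C := by
    have : Nat.card (Fin 3 × (U : Finset G)) ≤ Nat.card C := by
      refine Nat.card_le_card_of_injective (fun q : Fin 3 × (U : Finset G) => (⟨y ^ (q.1 : ℕ) * q.2.1,
        mul_mem (pow_mem (Subgroup.mem_centralizer_singleton_iff.2 rfl) _) (Finset.mem_filter.1 q.2.2).2⟩ : C)) ?_
      rintro ⟨i, u, hu⟩ ⟨j, w, hw⟩ e
      have e' : y ^ (i : ℕ) * u = y ^ (j : ℕ) * w := congrArg (fun v : C => (v : G)) e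
      have hu' : Commute y u := (Subgroup.mem_centralizer_singleton_iff.1 (Finset.mem_filter.1 hu).2).symm
      have hw' : Commute y w := (Subgroup.mem_centralizer_singleton_iff.1 (Finset.mem_filter.1 hw).2).symm
      have e2 := congrArg (fun v => v ^ 2) e'
      simp only [(hu'.pow_left _).mul_pow, (hw'.pow_left _).mul_pow, sq u, sq w,
        hmemT.1 (Finset.mem_filter.1 hu).1, hmemT.1 (Finset.mem_filter.1 hw).1, mul_one, ← pow_mul] at e2
      rw [pow_eq_pow_iff_modEq, hy] at e2
      have hij : i = j := by
        apply Fin.ext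
        unfold Nat.ModEq at e2
        omega
      subst hij
      exact Prod.ext rfl (Subtype.ext (mul_left_cancel e'))
    simpa [Nat.card_prod, Nat.card_eq_finsetCard] using this
  have hout : (T.filter (fun t => t ∉ C)).card ≤ Nat.card C := by
    rw [← Nat.card_eq_finsetCard (T.filter (fun t => t ∉ C))]
    refine Nat.card_le_card_of_injective (fun u : (T.filter (fun t => t ∉ C) : Finset G) =>
      (⟨t₀ * u.1, ?_⟩ : C)) fun a b e => Subtype.ext (mul_left_cancel
        (congrArg (fun v : C => (v : G)) e))
    rw [Subgroup.mul_mem_iff_of_index_two hidx]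
    exact iff_of_false hnC (Finset.mem_filter.1 u.2).2
  have hsplit : U.card + (T.filter (fun t => t ∉ C)).card = T.card := by
    rw [← Finset.card_union_of_disjoint (Finset.disjoint_filter.2 fun _ _ h h' => h' h)]
    congr 1
    ext t
    simp only [U, Finset.mem_union, Finset.mem_filter]
    tauto
  have h6 := Subgroup.card_mul_index C
  rw [hidx, Nat.card_eq_fintype_card (α := G)] at h6
  omega

omit [Fintype G] in
/-- A perfect group has no subgroup of index two and no non-trivial homomorphism to a commutative group. -/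
theorem eq_one_of_perfect {A : Type*} [CommGroup A] (hperf : commutator G = ⊤) (f : G →* A) (g : G) : f g = 1 :=
  MonoidHom.mem_ker.1 ((Abelianization.commutator_subset_ker f) (hperf ▸ Subgroup.mem_top g))

end CfsgLib.BrauerReynolds
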