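import Mathlib
import Cfsg.Agent.DefectOne.FTNormal
import Cfsg.Agent.BrauerReynolds.Tools

/-!
Perfect groups with a Sylow subgroup of order `p`: linear characters, characters of small degree and the index of
the centraliser in the normaliser.
-/

set_option autoImplicit false
set_option linter.style.haveILetI false

namespace CfsgLib.BrauerReynolds

open Cfsg CfsgLib.CharBasics CfsgLib.DefectOne

universe u

variable {G : Type u} [Group G]

theorem perfect_map {G' : Type*} [Group G'] {f : G →* G'} (hf : Function.Surjective f)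
    (hperf : commutator G = ⊤) : commutator G' = ⊤ := by
  rw [commutator_def, ← Subgroup.map_top_of_surjective f hf, ← Subgroup.map_commutator, ← commutator_def, hperf]

/-- A finite perfect group has no Sylow subgroup in the centre of its normaliser. -/
theorem not_normalizer_le_centralizer [Finite G] (hperf : commutator G = ⊤) {p : ℕ} [Fact p.Prime] (P : Sylow p G)
    (hdvd : p ∣ Nat.card G) :
    ¬ Subgroup.normalizer ((P : Subgroup G) : Set G) ≤ Subgroup.centralizer ((P : Subgroup G) : Set G) := by
  intro h
  have hP : IsMulCommutative (P : Subgroup G) := ⟨⟨fun a b => Subtype.ext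
    ((Subgroup.mem_centralizer_iff.1 (h (Subgroup.le_normalizer b.2)) a a.2))⟩⟩
  letI : CommGroup (P : Subgroup G) :=
    { (inferInstance : Group (P : Subgroup G)) with mul_comm := fun a b => hP.is_comm.comm a b }
  have hker : (MonoidHom.transferSylow P h).ker = ⊤ :=
    eq_top_iff.2 fun g _ => MonoidHom.mem_ker.2 (eq_one_of_perfect hperf _ g)
  have hc := MonoidHom.ker_transferSylow_isComplement' P h
  rw [hker] at hc
  have h1 := (Subgroup.isComplement'_top_left.1 hc)
  have h2 := P.dvd_card_of_dvd_card hdvd
  rw [h1, Subgroup.card_bot, Nat.dvd_one] at h2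
  exact (Fact.out : p.Prime).ne_one h2

variable [Fintype G]

/-- The linear characters of a perfect group are trivial. -/
theorem eq_oneChar_of_deg_one (hperf : commutator G = ⊤) (χ : IrrCharacter G)
    (h : charDegree (χ : G → ℂ) = 1) : χ = oneChar := by
  refine Subtype.ext (funext fun g => ?_)
  have h1 := eq_one_of_perfect hperf (linHomOf χ h).toHomUnits g
  rw [oneChar_apply, ← linHomOf_apply χ h g]
  exact congrArg (fun u : ℂˣ => (u : ℂ)) h1

/-- A perfect group with a Sylow subgroup of order `p` has no non-trivial character of degree below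
`(p - 1) / 2`. -/
theorem eq_oneChar_of_small (hperf : commutator G = ⊤) {p : ℕ} [Fact p.Prime] (hdvd : p ∣ Nat.card G)
    (hsq : ¬ p ^ 2 ∣ Nat.card G) (χ : IrrCharacter G) {x : G} (hx : orderOf x = p)
    (hsmall : 2 * charDegree (χ : G → ℂ) + 1 < p) : (χ : G → ℂ) x = (χ : G → ℂ) 1 := by
  classical
  have hp : p.Prime := Fact.out
  set K := charKer (χ : G → ℂ) (isCharacter_of_irr χ.2) with hKdef
  haveI : K.Normal := charKer_normal _
  by_contra hne
  have hxK : x ∉ K := fun h => hne ((mem_charKer _ x).1 h)
  obtain ⟨ψ, hψ⟩ := exists_quotient_irr χ K fun g hg => (mem_charKer _ g).1 hg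
  let π := QuotientGroup.mk' K
  have hsq' : ¬ p ^ 2 ∣ Nat.card (G ⧸ K) := fun h => hsq (h.trans (Subgroup.card_quotient_dvd_card K))
  have hox : orderOf (π x) = p := by
    refine ((Nat.dvd_prime hp).1 (hx ▸ orderOf_map_dvd π x)).resolve_left fun h => ?_
    exact hxK ((QuotientGroup.eq_one_iff x).1 (orderOf_eq_one_iff.1 h))
  have hdeg : charDegree (ψ : G ⧸ K → ℂ) = charDegree (χ : G → ℂ) := by
    have h1 := hψ 1
    rw [show ((1 : G) : G ⧸ K) = 1 from rfl, apply_one (isCharacter_of_irr ψ.2),
      apply_one (isCharacter_of_irr χ.2)] at h1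
    exact_mod_cast h1
  have hN := normal_of_small (Nat.card (G ⧸ K)) (G ⧸ K) rfl hsq' (ψ : G ⧸ K → ℂ) (isCharacter_of_irr ψ.2)
    (fun g hg => by
      obtain ⟨g, rfl⟩ := QuotientGroup.mk_surjective g
      rw [hψ, show (1 : G ⧸ K) = ((1 : G) : G ⧸ K) from rfl, hψ] at hg
      exact (QuotientGroup.eq_one_iff g).2 ((mem_charKer _ g).2 hg))
    (by rwa [hdeg]) (π x) hox
  have hperf' : commutator (G ⧸ K) = ⊤ := perfect_map (QuotientGroup.mk'_surjective K) hperf
  have hfac : (Nat.card (G ⧸ K)).factorization p = 1 := by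
    have h1 := (hp.pow_dvd_iff_le_factorization Nat.card_pos.ne' (k := 1)).1
      (by rw [pow_one, ← hox]; exact orderOf_dvd_natCard _)
    have h2 := (hp.pow_dvd_iff_le_factorization Nat.card_pos.ne' (k := 2)).not.1 hsq'
    omega
  let P : Sylow p (G ⧸ K) := Sylow.ofCard (Subgroup.zpowers (π x))
    (by rw [hfac, pow_one, Nat.card_zpowers, hox])
  refine not_normalizer_le_centralizer hperf' P (hox ▸ orderOf_dvd_natCard (π x)) ?_
  rintro g -
  -- the conjugation action on a normal cyclic subgroup is trivial
  haveI : (Subgroup.zpowers (π x)).Normal := hN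
  letI : CommGroup (MulAut (Subgroup.zpowers (π x))) :=
    { (inferInstance : Group (MulAut (Subgroup.zpowers (π x)))) with
      mul_comm := fun a b => (IsCyclic.mulAutMulEquiv (Subgroup.zpowers (π x))).injective (by
        rw [map_mul, map_mul, mul_comm]) }
  have h1 := eq_one_of_perfect hperf' (MulAut.conjNormal (H := Subgroup.zpowers (π x))) g
  rw [Subgroup.mem_centralizer_iff]
  intro y hy
  have h2 := congrArg (fun a : MulAut (Subgroup.zpowers (π x)) => ((a ⟨y, hy⟩ : Subgroup.zpowers (π x)) : G ⧸ K)) h1
  simp only [MulAut.conjNormal_apply, MulAut.one_apply] at h2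
  exact (mul_inv_eq_iff_eq_mul.1 h2).symm

end CfsgLib.BrauerReynolds
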