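import Mathlib
import Cfsg.Agent.DefectOne.Bridge
import Cfsg.Agent.BrauerReynolds.Perfect

/-!
The degrees of the principal block of a perfect group of order less than `p ^ 3` whose number `k p + 1` of Sylow
`p`-subgroups exceeds `p + 1`: the centraliser of the Sylow subgroup is itself, its automiser has order `e` with
`e (k + 1) = p - 1`, and the degrees are `1`, `k p + 1`, `p - 1` and `p - e`.
-/

set_option autoImplicit false
set_option linter.style.haveILetI false
set_option linter.unusedSectionVars false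

namespace CfsgLib.BrauerReynolds

open Cfsg CfsgLib.CharBasics CfsgLib.DefectOne

universe u

theorem sum_deg_sq {G : Type u} [Group G] [Fintype G] [Fintype (IrrCharacter G)] :
    ∑ χ : IrrCharacter G, charDegree (χ : G → ℂ) ^ 2 = Nat.card G := by
  classical
  have h := sum_col (1 : G) (1 : G)
  rw [if_pos (IsConj.refl 1)] at h
  simp only [apply_one (isCharacter_of_irr (Subtype.prop _)), Complex.conj_natCast, ← sq] at h
  have hc : Subgroup.centralizer ({(1 : G)} : Set G) = ⊤ :=
    eq_top_iff.2 fun g _ => Subgroup.mem_centralizer_singleton_iff.2 (by simp)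
  rw [hc, Subgroup.card_top] at h
  exact_mod_cast h

theorem degree_dvd_part {p g d : ℕ} (hp : p.Prime) (hd : ¬ p ∣ d) (h : d ∣ p * g) : d ∣ g :=
  ((hp.coprime_iff_not_dvd.2 hd).symm).dvd_of_dvd_mul_left h

theorem modEq_eq_of_lt {p a b : ℕ} (ha : a < p) (hb : b < p) (h : (a : ℤ) ≡ b [ZMOD p]) : a = b := by
  have := Int.emod_eq_of_lt (Int.natCast_nonneg a) (Int.ofNat_lt.2 ha)
  have := Int.emod_eq_of_lt (Int.natCast_nonneg b) (Int.ofNat_lt.2 hb)
  unfold Int.ModEq at h
  omega

/-- A divisor congruent to `1` of `w (k p + 1)`. -/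
theorem divisor_pos {p k w d : ℕ} (hp : p.Prime) (hw : 0 < w) (hwp : w * k < p) (hk : 2 ≤ k) (hd2 : 2 ≤ d)
    (hmod : (d : ℤ) ≡ 1 [ZMOD p]) (hdvd : d ∣ w * (k * p + 1)) : d = k * p + 1 := by
  obtain ⟨c, hc⟩ := hdvd
  have hp2 := hp.two_le
  have hwlt : w < p := by nlinarith
  have hdp : p + 1 ≤ d := by
    obtain ⟨a, ha⟩ := Int.modEq_iff_dvd.1 hmod.symm
    have : (1 : ℤ) ≤ a := by
      by_contra hlt
      push Not at hlt
      have : (p : ℤ) * a ≤ 0 := by nlinarith
      omega
    nlinarith
  have hcp : c < p := by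
    by_contra hle
    push Not at hle
    have : w * (k * p + 1) < p * (p + 1) := by nlinarith
    nlinarith
  have hcw : c = w := by
    refine modEq_eq_of_lt hcp hwlt ?_
    have h1 : ((d * c : ℕ) : ℤ) ≡ (c : ℤ) [ZMOD p] := by
      push_cast
      simpa using hmod.mul_right (c : ℤ)
    have h2 : ((w * (k * p + 1) : ℕ) : ℤ) ≡ (w : ℤ) [ZMOD p] :=
      Int.modEq_iff_dvd.2 ⟨-((w : ℤ) * k), by push_cast; ring⟩
    rw [← hc] at h1
    exact h1.symm.trans h2
  rw [hcw, mul_comm d w] at hc
  exact (Nat.eq_of_mul_eq_mul_left hw hc).symm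

/-- A divisor congruent to `-1` of `w (k p + 1)`. -/
theorem divisor_neg {p k w d : ℕ} (hp : p.Prime) (hp5 : 5 ≤ p) (hw : 2 ≤ w) (hwp : w * k < p) (hk : 2 ≤ k)
    (hmod : (d : ℤ) ≡ -1 [ZMOD p]) (hd0 : 0 < d) (hdvd : d ∣ w * (k * p + 1)) :
    d = p - 1 ∧ w * (k + 1) = p - 1 := by
  obtain ⟨c, hc⟩ := hdvd
  have h2w : 2 * w < p := by nlinarith
  obtain ⟨a, ha⟩ : ∃ a : ℕ, d + 1 = p * a := by
    obtain ⟨a, ha⟩ := Int.modEq_iff_dvd.1 hmod.symm
    have : (0 : ℤ) < a := by
      by_contra hlt
      push Not at hlt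
      have : (p : ℤ) * a ≤ 0 := by nlinarith
      omega
    exact ⟨a.toNat, by zify; rw [Int.toNat_of_nonneg this.le]; linarith⟩
  obtain ⟨b, hb⟩ : ∃ b : ℕ, c + w = p * b := by
    refine ⟨(c + w) / p, (Nat.mul_div_cancel' ?_).symm⟩
    have : ((d + 1) * c : ℕ) = w * k * p + (c + w) := by rw [add_mul, ← hc]; ring
    rw [ha, mul_assoc] at this
    have h1 : p ∣ w * k * p + (c + w) := this ▸ dvd_mul_right p _
    exact (Nat.dvd_add_right (dvd_mul_left p _)).1 h1
  have ha1 : 1 ≤ a := by
    by_contra h0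
    rw [show a = 0 by omega] at ha
    omega
  have hb1 : b = 1 := by
    have hb0 : 1 ≤ b := by
      by_contra h0
      rw [show b = 0 by omega] at hb
      omega
    by_contra hb2
    have h1 : p - 1 ≤ d := by
      have : p * 1 ≤ p * a := Nat.mul_le_mul_left p ha1
      omega
    have h2 : p + 2 ≤ c := by
      have : p * 2 ≤ p * b := Nat.mul_le_mul_left p (by omega)
      omega
    have h3 : (p - 1) * (p + 2) ≤ w * (k * p + 1) := hc ▸ Nat.mul_le_mul h1 h2
    obtain ⟨q, rfl⟩ : ∃ q, p = q + 1 := ⟨p - 1, by omega⟩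
    rw [Nat.add_sub_cancel] at h3
    nlinarith
  subst hb1
  have hcw : c = p - w := by omega
  have hkw : a * (p - w) = k * w + 1 := by
    subst hcw
    obtain ⟨r, hr⟩ : ∃ r, p = r + w := ⟨p - w, by omega⟩
    rw [show p - w = r by omega] at hc ⊢
    refine Nat.eq_of_mul_eq_mul_left hp.pos ?_
    calc p * (a * r) = (p * a) * r := by ring
      _ = d * r + r := by rw [← ha]; ring
      _ = p * (k * w + 1) := by rw [← hc, hr]; ring
  have ha2 : a = 1 := by
    by_contra hne
    have h1 : 2 * (p - w) ≤ a * (p - w) := Nat.mul_le_mul_right _ (by omega)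
    have h2 : k * w + 1 ≤ p := by nlinarith
    omega
  subst ha2
  rw [one_mul] at hkw
  refine ⟨by omega, ?_⟩
  have : w * (k + 1) = k * w + w := by ring
  omega

/-- The hypotheses. -/
structure Hyp {G : Type u} [Group G] {p : ℕ} (D : Data G p) (k : ℕ) : Prop where
  perfect : commutator G = ⊤
  big : Nat.card G < p ^ 3
  card_eq : Nat.card G = p * (Nat.card D.H * (k * p + 1))
  two_le : 2 ≤ k

variable {G : Type u} [Group G] [Fintype G] {p : ℕ} [Fact p.Prime] {D : Data G p} {k : ℕ}

theorem Hyp.two_le_e (h : Hyp D k) : 2 ≤ D.V.index := by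
  have h0 : D.V.index ≠ 0 := Subgroup.index_ne_zero_of_finite
  by_contra hlt
  have h1 : D.V.index = 1 := by omega
  have hfac : (Nat.card G).factorization p = 1 := by
    have h1 := (D.hp.pow_dvd_iff_le_factorization Nat.card_pos.ne' (k := 1)).1
      (by rw [pow_one]; exact D.dvd_natCard_G)
    have h2 := (D.hp.pow_dvd_iff_le_factorization Nat.card_pos.ne' (k := 2)).not.1 D.hSyl
    omega
  let P : Sylow p G := Sylow.ofCard (Subgroup.zpowers D.x) (by rw [hfac, pow_one, Nat.card_zpowers, D.hx])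
  refine not_normalizer_le_centralizer h.perfect P D.dvd_natCard_G ?_
  rw [show (P : Subgroup G) = Subgroup.zpowers D.x from rfl]
  exact Subgroup.relIndex_eq_one.1 (D.relIndex_eq.trans h1)

theorem Hyp.bounds (h : Hyp D k) : 2 ≤ Nat.card D.H ∧ Nat.card D.H * k < p ∧ 5 ≤ p := by
  have hH : D.V.index ∣ Nat.card D.H := D.V.index_dvd_card
  have h1 := h.two_le_e
  have h2 : 2 ≤ Nat.card D.H := le_trans h1 (Nat.le_of_dvd Nat.card_pos hH)
  have hk := h.two_le
  have h3 : Nat.card D.H * (k * p + 1) < p * p := by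
    have := h.big
    rw [h.card_eq, show p ^ 3 = p * (p * p) by ring] at this
    exact Nat.lt_of_mul_lt_mul_left this
  have h4 : Nat.card D.H * k < p := by
    by_contra hle
    push Not at hle
    have : p * p ≤ Nat.card D.H * k * p := Nat.mul_le_mul_right p hle
    nlinarith
  exact ⟨h2, h4, by nlinarith⟩

/-- The principal block. -/
structure Shape (D : Data G p) (k : ℕ) (F : D.Family D.one) : Prop where
  cardV : Nat.card D.V = 1
  e_eq : Nat.card D.H * (k + 1) = p - 1
  index_eq : (D.U D.one).index = k + 1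
  eps : F.ε = -1
  one_mem : oneChar ∈ D.rest F
  one_d : D.d (oneChar : IrrCharacter G) 1 D.one = -1
  deg_pos : ∀ χ ∈ D.rest F, χ ≠ oneChar → D.d χ 1 D.one = -1 → charDegree (χ : G → ℂ) = k * p + 1
  deg_neg : ∀ χ ∈ D.rest F, D.d χ 1 D.one = 1 → charDegree (χ : G → ℂ) = p - 1
  deg_theta : ∀ q, charDegree (F.θ q : G → ℂ) = p - Nat.card D.H
  count : Nat.card {χ : IrrCharacter G // χ ∈ D.rest F ∧ χ ≠ oneChar ∧ D.d χ 1 D.one = -1} * (k + 1) + 2 =
    Nat.card D.H

theorem d_oneChar (D : Data G p) {j : ZMod p} (hj : j ≠ 0) : D.d (oneChar : IrrCharacter G) j D.one = -1 := by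
  apply Int.cast_injective (α := ℂ)
  rw [D.d_eq, D.dd_eq]
  have hcc : ∀ i : ZMod p, D.cc (oneChar : IrrCharacter G).1 i (D.one : D.V → ℂ) = 1 := fun i => by
    show classInner (fun _ : D.V => (1 : ℂ)) (D.one : D.V → ℂ) = 1
    exact classInner_self (D.one).2
  simp only [hcc, one_mul, Finset.sum_sub_distrib, Data.conj_ee, Finset.sum_const, Finset.card_univ, ZMod.card,
    nsmul_eq_mul, mul_one]
  rw [Finset.sum_congr rfl (fun (i : ZMod p) _ => show Data.ee (-(i * j)) = Data.ee (i * (-j)) by rw [mul_neg]),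
    Data.sum_ee_mul, if_neg (neg_ne_zero.2 hj), zero_sub, mul_neg, inv_mul_cancel₀ Data.natCast_p_ne_zero]
  simp

theorem Hyp.shape (h : Hyp D k) {M : Ideal AlgInt} (hM : IsPModular p M) (F : D.Family D.one) : Shape D k F := by
  classical
  haveI : Fintype (IrrCharacter G) := Fintype.ofFinite _
  obtain ⟨hw2, hwk, hp5⟩ := h.bounds
  have hp : p.Prime := Fact.out
  have hk := h.two_le
  have he2 := h.two_le_e
  set w := Nat.card D.H with hwdef
  set e := D.V.index with hedef
  set v := Nat.card D.V with hvdef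
  have hev : e * v = w := Subgroup.index_mul_card D.V
  have hv0 : 0 < v := Nat.card_pos
  have hew : e ≤ w := Nat.le_of_dvd (by omega) ⟨v, hev.symm⟩
  have h2w : 2 * w < p := by nlinarith
  have hUe : Nat.card (D.U D.one) = e := D.card_U_one
  set t := (D.U D.one).index with htdef
  have het : e * t = p - 1 := by rw [← hUe]; exact D.card_U_mul_index D.one
  have ht2 : 2 ≤ t := by
    by_contra hlt
    have : t ≤ 1 := by omega
    have : e * t ≤ e * 1 := Nat.mul_le_mul_left e this
    omega
  have hfac : ∀ χ : IrrCharacter G, ¬ p ∣ charDegree (χ : G → ℂ) →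
      charDegree (χ : G → ℂ) ∣ w * (k * p + 1) := fun χ hχ =>
    degree_dvd_part hp hχ (h.card_eq ▸ CharBasics.degree_dvd χ)
  have hsgn : ∀ χ ∈ D.rest F, (charDegree (χ : G → ℂ) : ℤ) ≡ -D.d χ 1 D.one [ZMOD p] := fun χ hχ => by
    have h1 := D.deg_rest hM F hχ
    rwa [D.odeg_one, Nat.cast_one, mul_one] at h1
  -- the principal character is not exceptional
  have hone : (oneChar : IrrCharacter G) ∈ D.rest F := by
    refine ⟨D.oneChar_mem_blk, ?_⟩
    rintro ⟨q, hq⟩
    obtain ⟨a, ha⟩ : ∃ a : (ZMod p)ˣ, q ≠ D.cls D.one a := by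
      haveI : Nontrivial (D.Idx D.one) :=
        Fintype.one_lt_card_iff_nontrivial.1 (by rw [D.card_Idx]; omega)
      obtain ⟨q', hq'⟩ := exists_ne q
      obtain ⟨a, ha⟩ := D.cls_surj D.one q'
      exact ⟨a, ha ▸ hq'.symm⟩
    have h1 := F.d_eq' q a
    rw [if_neg ha, hq, d_oneChar D a.ne_zero] at h1
    omega
  have hd1 : D.d (oneChar : IrrCharacter G) 1 D.one = -1 := d_oneChar D one_ne_zero
  -- the degrees
  have hdpos : ∀ χ ∈ D.rest F, χ ≠ oneChar → D.d χ 1 D.one = -1 → charDegree (χ : G → ℂ) = k * p + 1 := by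
    intro χ hχ hne hd
    have h1 := hsgn χ hχ
    rw [hd, neg_neg] at h1
    refine divisor_pos hp (by omega) hwk hk ?_ h1 (hfac χ (D.not_dvd_deg_blk hM hχ.1))
    have h2 := charDegree_pos χ.2
    by_contra hlt
    exact hne (eq_oneChar_of_deg_one h.perfect χ (by omega))
  have hdneg : ∀ χ ∈ D.rest F, D.d χ 1 D.one = 1 →
      charDegree (χ : G → ℂ) = p - 1 ∧ w * (k + 1) = p - 1 := by
    intro χ hχ hd
    have h1 := hsgn χ hχ
    rw [hd] at h1
    exact divisor_neg hp hp5 hw2 hwk hk h1 (charDegree_pos χ.2) (hfac χ (D.not_dvd_deg_blk hM hχ.1))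
  set f := charDegree (F.θ 1 : G → ℂ) with hfdef
  have hfall : ∀ q, charDegree (F.θ q : G → ℂ) = f := fun q => by
    have h1 := D.theta_regular F q (g := 1) (by rw [orderOf_one]; exact hp.not_dvd_one)
    rw [apply_one (isCharacter_of_irr (F.θ q).2), apply_one (isCharacter_of_irr (F.θ 1).2)] at h1
    exact_mod_cast h1
  -- the three sets
  set R := Finset.univ.filter (fun χ : IrrCharacter G => χ ∈ D.rest F) with hR
  set Rp := R.filter (fun χ => χ ≠ oneChar ∧ D.d χ 1 D.one = -1) with hRp
  set Rn := R.filter (fun χ => D.d χ 1 D.one = 1) with hRn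
  set a := Rp.card with hadef
  set b := Rn.card with hbdef
  have hmemR : ∀ {χ}, χ ∈ R ↔ χ ∈ D.rest F := fun {χ} => by simp [hR]
  have hsplit : R = insert oneChar (Rp ∪ Rn) := by
    ext χ
    simp only [Finset.mem_insert, Finset.mem_union, hRp, hRn, Finset.mem_filter, hmemR]
    refine ⟨fun hχ => ?_, ?_⟩
    · by_cases h1 : χ = oneChar
      · exact Or.inl h1
      · rcases D.rest_d hM F hχ with h2 | h2
        · exact Or.inr (Or.inr ⟨hχ, h2⟩)
        · exact Or.inr (Or.inl ⟨hχ, h1, h2⟩)
    · rintro (rfl | ⟨hχ, -⟩ | ⟨hχ, -⟩)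
      · exact hone
      all_goals exact hχ
  have hnot : (oneChar : IrrCharacter G) ∉ Rp ∪ Rn := by
    simp only [Finset.mem_union, hRp, hRn, Finset.mem_filter, hd1]
    norm_num
  have hdisj : Disjoint Rp Rn := Finset.disjoint_left.2 fun χ h1 h2 => by
    have := (Finset.mem_filter.1 h1).2.2
    have := (Finset.mem_filter.1 h2).2
    omega
  have hcardR : 1 + a + b = e := by
    have h1 : R.card = e := by
      rw [← hUe, ← D.card_rest hM F, Nat.card_eq_fintype_card]
      exact (Fintype.card_of_subtype R fun χ => hmemR).symm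
    rw [hsplit, Finset.card_insert_of_notMem hnot, Finset.card_union_of_disjoint hdisj] at h1
    omega
  have hdegp : ∀ χ ∈ Rp, charDegree (χ : G → ℂ) = k * p + 1 := fun χ hχ => by
    obtain ⟨h1, h2, h3⟩ := Finset.mem_filter.1 hχ
    exact hdpos χ (hmemR.1 h1) h2 h3
  have hdegn : ∀ χ ∈ Rn, charDegree (χ : G → ℂ) = p - 1 := fun χ hχ => by
    obtain ⟨h1, h2⟩ := Finset.mem_filter.1 hχ
    exact (hdneg χ (hmemR.1 h1) h2).1
  have hrel : F.ε * (f : ℤ) = 1 + (a : ℤ) * ((k * p + 1 : ℕ) : ℤ) - (b : ℤ) * ((p - 1 : ℕ) : ℤ) := by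
    have h1 := D.regular_relation F 1 (g := 1) (by rw [orderOf_one]; exact hp.not_dvd_one)
    rw [finsum_mem_eq_sum_of_subset (t := R) _ (fun χ hχ => hmemR.2 hχ.1) (fun χ hχ => hmemR.1 hχ), hsplit,
      Finset.sum_insert hnot, Finset.sum_union hdisj, apply_one (isCharacter_of_irr (F.θ 1).2), hd1,
      oneChar_apply] at h1
    rw [Finset.sum_congr rfl (g := fun _ => (-1 : ℂ) * ((k * p + 1 : ℕ) : ℂ)) (fun χ hχ => by
        rw [(Finset.mem_filter.1 hχ).2.2, apply_one (isCharacter_of_irr χ.2), hdegp χ hχ]; simp),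
      Finset.sum_congr rfl (s₁ := Rn) (g := fun _ => (1 : ℂ) * ((p - 1 : ℕ) : ℂ)) (fun χ hχ => by
        rw [(Finset.mem_filter.1 hχ).2, apply_one (isCharacter_of_irr χ.2), hdegn χ hχ]; simp),
      Finset.sum_const, Finset.sum_const, ← hfdef, nsmul_eq_mul, nsmul_eq_mul] at h1
    apply Int.cast_injective (α := ℂ)
    push_cast at h1 ⊢
    linear_combination h1
  have hsq : 1 + a * (k * p + 1) ^ 2 + t * f ^ 2 ≤ p * (w * (k * p + 1)) := by
    rw [← h.card_eq, ← sum_deg_sq]
    set Y := Finset.univ.image F.θ with hY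
    have hYc : Y.card = t := by
      rw [hY, Finset.card_image_of_injective _ F.inj, Finset.card_univ, D.card_Idx]
    have hdY : Disjoint (insert oneChar Rp) Y := Finset.disjoint_left.2 fun χ h1 h2 => by
      obtain ⟨q, -, rfl⟩ := Finset.mem_image.1 h2
      have hm : F.θ q ∈ D.rest F := by
        rcases Finset.mem_insert.1 h1 with h1 | h1
        · exact h1 ▸ hone
        · exact hmemR.1 (Finset.mem_filter.1 h1).1
      exact hm.2 ⟨q, rfl⟩
    refine le_trans (le_of_eq ?_) (Finset.sum_le_sum_of_subset (Finset.subset_univ (insert oneChar Rp ∪ Y)))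
    have hone' : charDegree ((oneChar : IrrCharacter G) : G → ℂ) = 1 := by
      have h1 := apply_one (isCharacter_of_irr (oneChar : IrrCharacter G).2)
      rw [oneChar_apply] at h1
      exact_mod_cast h1.symm
    rw [Finset.sum_union hdY, Finset.sum_insert (fun h1 => hnot (Finset.mem_union_left _ h1)), hone', one_pow,
      Finset.sum_congr rfl (fun χ hχ => by rw [hdegp χ hχ]),
      Finset.sum_congr rfl (s₁ := Y) (g := fun _ => f ^ 2) (fun χ hχ => by
        obtain ⟨q, -, rfl⟩ := Finset.mem_image.1 hχ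
        rw [hfall]),
      Finset.sum_const, Finset.sum_const, hYc, smul_eq_mul, smul_eq_mul]
  -- some character has degree `p - 1`
  have hb0 : 1 ≤ b := by
    by_contra hlt
    have hb : b = 0 := by omega
    rw [hb, Nat.cast_zero, zero_mul, sub_zero] at hrel
    have hfn : f = 1 + a * (k * p + 1) := by
      rcases F.sign with hs | hs <;> rw [hs] at hrel
      · rw [one_mul] at hrel
        exact_mod_cast hrel
      · exfalso
        have : (0 : ℤ) ≤ (a : ℤ) * ((k * p + 1 : ℕ) : ℤ) := mul_nonneg (Int.natCast_nonneg _) (Int.natCast_nonneg _)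
        omega
    set n := k * p + 1 with hn
    have ha1 : 1 ≤ a := by omega
    have h1 : t * (a * n) ^ 2 < p * (w * n) := by
      have : (a * n) ^ 2 < f ^ 2 := Nat.pow_lt_pow_left (by omega) two_ne_zero
      have := Nat.mul_lt_mul_of_pos_left this (show 0 < t by omega)
      omega
    have h2 : t * (a * a) * n < p * w := by
      refine Nat.lt_of_mul_lt_mul_right (a := n) ?_
      calc t * (a * a) * n * n = t * (a * n) ^ 2 := by ring
        _ < _ := h1
        _ = p * w * n := by ring
    have h3 : p - 1 ≤ 2 * (t * (a * a)) := by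
      rw [← het, ← hcardR, hb, add_zero]
      calc (1 + a) * t ≤ (2 * (a * a)) * t := Nat.mul_le_mul_right t (by nlinarith)
        _ = _ := by ring
    have h4 : (p - 1) * n < 2 * (p * w) := by
      have := Nat.mul_le_mul_right n h3
      nlinarith
    obtain ⟨q, rfl⟩ : ∃ q, p = q + 1 := ⟨p - 1, by omega⟩
    rw [Nat.add_sub_cancel] at h4
    have h5 : q * k < 2 * w := by
      refine Nat.lt_of_mul_lt_mul_right (a := q + 1) ?_
      calc q * k * (q + 1) ≤ q * n := by rw [hn, mul_assoc]; exact Nat.mul_le_mul_left q (by omega)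
        _ < 2 * ((q + 1) * w) := h4
        _ = _ := by ring
    have h6 : q * k * k < 2 * w * k := Nat.mul_lt_mul_of_pos_right h5 (by omega)
    have h7 : w * k ≤ q := by omega
    have h8 : q * 4 ≤ q * k * k := by
      rw [mul_assoc]
      exact Nat.mul_le_mul_left q (by nlinarith)
    have h9 : q * 4 < 2 * q :=
      lt_of_le_of_lt h8 (lt_of_lt_of_le h6 (by rw [mul_assoc]; exact Nat.mul_le_mul_left 2 h7))
    omega
  obtain ⟨χn, hχn⟩ := Finset.card_pos.1 (show 0 < Rn.card from hb0)
  obtain ⟨-, hkw⟩ := hdneg χn (hmemR.1 (Finset.mem_filter.1 hχn).1) (Finset.mem_filter.1 hχn).2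
  have h3w : 3 * w ≤ p - 1 := by rw [← hkw, mul_comm]; exact Nat.mul_le_mul_left _ (by omega)
  have hg' : w * (k * p + 1) = (p - 1) * (p - w) := by
    obtain ⟨q, hq⟩ : ∃ q, p = q + 1 := ⟨p - 1, by omega⟩
    obtain ⟨r, hr⟩ : ∃ r, p = r + w := ⟨p - w, by omega⟩
    rw [show p - w = r by omega, show p - 1 = q by omega]
    rw [show p - 1 = q by omega] at hkw
    rw [← hkw]
    have : (k + 1) * r = k * p + 1 := by
      have : r + w = q + 1 := by omega
      rw [hq]
      nlinarith
    rw [mul_assoc, this]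
  -- the exceptional degree
  have hfθ : (f : ℤ) ≡ F.ε * (e : ℤ) [ZMOD p] := by
    have h1 := D.deg_theta hM F 1
    rw [← hfdef, show charDegree (D.one : D.V → ℂ) = 1 from by
      have := D.odeg_one
      rwa [Data.odeg, D.orb_one, Finset.card_singleton, one_mul] at this, mul_one] at h1
    exact h1
  have hfdvd : f ∣ w * (k * p + 1) := hfac _ (D.not_dvd_deg_blk hM (D.theta_mem_blk F 1))
  have hf_sq : f ^ 2 < p * (e * (p - w)) := by
    have h1 : t * f ^ 2 < p * (w * (k * p + 1)) := by omega
    rw [hg', ← het] at h1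
    refine Nat.lt_of_mul_lt_mul_left (a := t) ?_
    calc t * f ^ 2 < p * (e * t * (p - w)) := h1
      _ = _ := by ring
  have hf_big : p ≤ 2 * f + 1 := by
    by_contra hlt
    push Not at hlt
    have h1 := eq_oneChar_of_small h.perfect D.dvd_natCard_G D.hSyl (F.θ 1) D.hx hlt
    have h2 := D.apply_pt' (F.θ 1) (i := 1) one_ne_zero 1
    have e0 : D.pt ((1 : ZMod p), 1) = D.x := by simp [Data.pt, ZMod.val_one]
    have hsmallV : ∀ ψ : IrrCharacter D.V, ψ ∈ D.orb D.one → ψ = D.one := fun ψ hψ => by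
      rwa [D.orb_one, Finset.mem_singleton] at hψ
    rw [e0, h1, apply_one (isCharacter_of_irr (F.θ 1).2), ← hfdef] at h2
    rw [Finset.sum_eq_single D.one (fun ψ _ hψ => by
      have : ψ ∉ D.orb D.one := fun hm => hψ (hsmallV ψ hm)
      simp [F.d_other 1 ψ this]) (by simp)] at h2
    rw [D.one_apply, mul_one] at h2
    -- the value at `x` of an exceptional character is a sum over one class of exponents
    have hval : (f : ℂ) = (F.ε : ℂ) * ∑ a ∈ Finset.univ.filter (fun a : (ZMod p)ˣ => (1 : D.Idx D.one) = D.cls D.one a),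
        Data.ee (a : ZMod p) := by
      rw [h2, Finset.mul_sum, ← Finset.sum_subset (Finset.subset_univ ((Finset.univ.filter
        (fun a : (ZMod p)ˣ => (1 : D.Idx D.one) = D.cls D.one a)).map ⟨Units.val, Units.val_injective⟩))]
      · rw [Finset.sum_map]
        refine Finset.sum_congr rfl fun a ha => ?_
        rw [Function.Embedding.coeFn_mk, F.d_eq' 1 a, if_pos (Finset.mem_filter.1 ha).2, one_mul]
      · intro j _ hj
        by_cases hj0 : j = 0
        · simp [hj0, D.d_zero]
        · have h3 : ¬ (1 : D.Idx D.one) = D.cls D.one (Units.mk0 j hj0) := fun h3 => hj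
            (Finset.mem_map.2 ⟨Units.mk0 j hj0, by simp [h3], rfl⟩)
          rw [show j = ((Units.mk0 j hj0 : (ZMod p)ˣ) : ZMod p) from rfl, F.d_eq' 1 _, if_neg h3]
          simp
    -- compare norms
    set S := Finset.univ.filter (fun a : (ZMod p)ˣ => (1 : D.Idx D.one) = D.cls D.one a) with hSdef
    have hScard : S.card = e := by
      rw [← hUe, Nat.card_eq_fintype_card]
      refine (Fintype.card_of_subtype S fun a => ?_).symm
      simp only [hSdef, Finset.mem_filter, Finset.mem_univ, true_and, Data.cls, eq_comm (a := (1 : D.Idx D.one)),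
        QuotientGroup.eq_one_iff]
    have hnorm : ∀ a ∈ S, ‖Data.ee (a : ZMod p)‖ = 1 := fun a _ =>
      AddChar.norm_apply _ _
    have hle : (f : ℝ) ≤ e := by
      have := congrArg norm hval
      rw [Complex.norm_natCast, norm_mul] at this
      rw [this]
      refine le_trans (mul_le_of_le_one_left (norm_nonneg _) ?_)
        (le_trans (norm_sum_le _ _) (by rw [Finset.sum_congr rfl hnorm]; simp [hScard]))
      rcases F.sign with hs | hs <;> simp [hs]
    have hfe : f = e := by
      have hfe' : f ≤ e := by exact_mod_cast hle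
      rcases F.sign with hs | hs <;> rw [hs] at hfθ
      · refine modEq_eq_of_lt (p := p) (by omega) (by omega) ?_
        simpa using hfθ
      · exfalso
        obtain ⟨m, hm⟩ := Int.modEq_iff_dvd.1 hfθ
        have hf0 : 0 < f := charDegree_pos (F.θ 1).2
        have : -(p : ℤ) < (p : ℤ) * m := by rw [← hm]; omega
        have : (p : ℤ) * m < 0 := by rw [← hm]; omega
        have hm0 : m < 0 := by nlinarith
        have hm1 : -1 < m := by nlinarith
        omega
    -- equality forces every summand to be one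
    rcases F.sign with hs | hs
    · rw [hs, Int.cast_one, one_mul, hfe, ← hScard] at hval
      have hall := eq_one_of_sum_eq_card (ι := {a // a ∈ S}) (fun a => Data.ee ((a : (ZMod p)ˣ) : ZMod p))
        (fun a => hnorm a a.2) (by
          rw [Finset.sum_coe_sort S fun a => Data.ee ((a : (ZMod p)ˣ) : ZMod p), ← hval, Fintype.card_coe])
      obtain ⟨a, haS⟩ := Finset.card_pos.1 (by rw [hScard]; omega : 0 < S.card)
      exact a.ne_zero (((ZMod.isPrimitive_stdAddChar p).zmod_char_eq_one_iff _ _).1 (hall ⟨a, haS⟩))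
    · rw [hfe, hs, show ((-1 : ℤ) * (e : ℤ)) = -(e : ℤ) by ring] at hfθ
      obtain ⟨m, hm⟩ := Int.modEq_iff_dvd.1 hfθ
      have : -(p : ℤ) < (p : ℤ) * m := by rw [← hm]; omega
      have : (p : ℤ) * m < 0 := by rw [← hm]; omega
      have hm0 : m < 0 := by nlinarith
      have hm1 : -1 < m := by nlinarith
      omega
  have hsign : F.ε = -1 ∧ f = p - e ∧ v = 1 := by
    obtain ⟨c, hc⟩ := hfdvd
    have hv_p : v < p := lt_of_le_of_lt (Nat.le_of_dvd (by omega) (⟨e, by rw [← hev, mul_comm]⟩ : v ∣ w)) (by omega)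
    have hmodc : (F.ε * (e : ℤ)) * c ≡ (e : ℤ) * v [ZMOD p] := by
      have h1 : ((f * c : ℕ) : ℤ) ≡ (F.ε * (e : ℤ)) * c [ZMOD p] := by
        push_cast
        exact hfθ.mul_right _
      have h2 : ((w * (k * p + 1) : ℕ) : ℤ) ≡ (e : ℤ) * v [ZMOD p] :=
        Int.modEq_iff_dvd.2 ⟨-((w : ℤ) * k), by rw [← hev]; push_cast; ring⟩
      rw [← hc] at h1
      exact h1.symm.trans h2
    have hpe : ¬ (p : ℤ) ∣ (e : ℤ) := fun hd => by
      have := Nat.le_of_dvd (by omega) (Int.natCast_dvd_natCast.1 hd)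
      omega
    rcases F.sign with hs | hs <;> rw [hs] at hfθ hmodc
    · exfalso
      rw [one_mul] at hfθ hmodc
      have hef : e < f := by omega
      have hfp : p + e ≤ f := by
        obtain ⟨m, hm⟩ := Int.modEq_iff_dvd.1 hfθ
        have : m ≤ -1 := by
          by_contra hlt
          push Not at hlt
          have : (p : ℤ) * 0 ≤ p * m := mul_le_mul_of_nonneg_left (by omega) (by positivity)
          omega
        have : (p : ℤ) * m ≤ p * -1 := mul_le_mul_of_nonneg_left this (by positivity)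
        omega
      have hcp : c < p := by
        by_contra hle
        push Not at hle
        have : (p - 1) * (p - w) < f * c :=
          lt_of_lt_of_le (Nat.mul_lt_mul_of_lt_of_le (by omega : p - 1 < p) (by omega : p - w ≤ p) (by omega))
            (Nat.mul_le_mul (by omega) hle)
        omega
      have hcv : c = v := by
        refine modEq_eq_of_lt hcp hv_p ?_
        have h3 := Int.modEq_iff_dvd.1 hmodc
        rw [← mul_sub] at h3
        exact Int.modEq_iff_dvd.2 (((Nat.prime_iff_prime_int.1 hp).dvd_mul.1 h3).resolve_left hpe)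
      rw [hcv, ← hev] at hc
      have hfn : f = e * (k * p + 1) := by
        refine Nat.eq_of_mul_eq_mul_right hv0 ?_
        rw [← hc]; ring
      rw [hfn] at hf_sq
      have : (e * (k * p + 1)) ^ 2 ≥ p * (e * (p - w)) := by
        have hA : p ≤ k * p + 1 := by nlinarith
        calc p * (e * (p - w)) ≤ (k * p + 1) * ((e * e) * (k * p + 1)) :=
              Nat.mul_le_mul hA (Nat.mul_le_mul (Nat.le_mul_self e) (by omega))
          _ = _ := by ring
      omega
    · refine ⟨hs, ?_⟩
      obtain ⟨m, hm⟩ : ∃ m : ℕ, f + e = p * m := by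
        obtain ⟨m, hm⟩ := Int.modEq_iff_dvd.1 hfθ.symm
        have : (0 : ℤ) ≤ m := by
          by_contra hlt
          push Not at hlt
          have : (p : ℤ) * m ≤ p * -1 := mul_le_mul_of_nonneg_left (by omega) (by positivity)
          omega
        refine ⟨m.toNat, ?_⟩
        zify
        rw [Int.toNat_of_nonneg this]
        linarith
      obtain ⟨l, hl⟩ : ∃ l : ℕ, c + v = p * l := by
        refine ⟨(c + v) / p, (Nat.mul_div_cancel' (Int.natCast_dvd_natCast.1 ?_)).symm⟩
        have h3 := Int.modEq_iff_dvd.1 hmodc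
        rw [show (e : ℤ) * v - (-1) * e * c = e * (((c + v : ℕ) : ℕ) : ℤ) by push_cast; ring] at h3
        exact ((Nat.prime_iff_prime_int.1 hp).dvd_mul.1 h3).resolve_left hpe
      have hm1 : 1 ≤ m := by
        by_contra h0
        rw [show m = 0 by omega] at hm
        omega
      have hl1 : 1 ≤ l := by
        by_contra h0
        rw [show l = 0 by omega] at hl
        omega
      have hfpw : p - w ≤ f := by
        have : p * 1 ≤ p * m := Nat.mul_le_mul_left p hm1
        omega
      have hc' : f * c = (p - 1) * (p - w) := hc.symm.trans hg'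
      have hc1 : c ≤ p - 1 := by
        refine Nat.le_of_mul_le_mul_left ?_ (show 0 < p - w by omega)
        rw [mul_comm _ (p - 1), ← hc']
        exact Nat.mul_le_mul_right c hfpw
      have hl2 : l = 1 := by
        by_contra hne
        have : p * 2 ≤ p * l := Nat.mul_le_mul_left p (by omega)
        omega
      subst hl2
      have hm2 : m = 1 := by
        by_contra hne
        have h1 : p * 2 ≤ p * m := Nat.mul_le_mul_left p (by omega)
        have h2 : (2 * p - w) * (p - w) ≤ f * c := Nat.mul_le_mul (by omega) (by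
          have : v ≤ w := Nat.le_of_dvd (by omega) ⟨e, by rw [← hev, mul_comm]⟩
          omega)
        rw [hc'] at h2
        exact absurd (Nat.le_of_mul_le_mul_right h2 (by omega)) (by omega)
      subst hm2
      refine ⟨by omega, ?_⟩
      -- `(p - v)(p - e) = (p - 1)(p - w)`
      obtain ⟨q, hq⟩ : ∃ q, p = q + 1 := ⟨p - 1, by omega⟩
      obtain ⟨r, hr⟩ : ∃ r, p = r + w := ⟨p - w, by omega⟩
      rw [show p - 1 = q by omega, show p - w = r by omega] at hc'
      have hvf : (f + e) * (c + v) = (q + 1) * (r + w) := by rw [hm, hl, ← hq, ← hr, mul_one]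
      have h5 : (e + v : ℤ) = 1 + w := by
        refine mul_left_cancel₀ (show (p : ℤ) ≠ 0 by exact_mod_cast hp.ne_zero) ?_
        have e1 : (f : ℤ) = p - e := by omega
        have e2 : (c : ℤ) = p - v := by omega
        have e3 : (q : ℤ) = p - 1 := by omega
        have e4 : (r : ℤ) = p - w := by omega
        have e5 : ((f * c : ℕ) : ℤ) = ((q * r : ℕ) : ℤ) := by rw [hc']
        push_cast at e5
        rw [e1, e2, e3, e4, ← hev] at e5
        push_cast at e5 ⊢
        rw [← hev]
        push_cast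
        linarith [e5]
      by_contra hv1
      have : (e : ℤ) * 2 ≤ e * v := by
        have : (2 : ℤ) ≤ v := by omega
        nlinarith
      rw [← hev] at h5
      push_cast at h5
      nlinarith
  obtain ⟨hε, hf, hv⟩ := hsign
  have hwe : w = e := by rw [← hev, hv, mul_one]
  have ht : t = k + 1 := by
    refine Nat.eq_of_mul_eq_mul_left (show 0 < e by omega) ?_
    rw [het, ← hkw, hwe]
  refine ⟨hv, hkw, ht, hε, hone, hd1, hdpos, fun χ hχ hd => (hdneg χ hχ hd).1, fun q => ?_, ?_⟩
  · rw [hfall, hf, ← hwdef, hwe]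
  · have hset : Nat.card {χ : IrrCharacter G // χ ∈ D.rest F ∧ χ ≠ oneChar ∧ D.d χ 1 D.one = -1} = a := by
      rw [Nat.card_eq_fintype_card, hadef]
      exact Fintype.card_of_subtype _ fun χ => by simp [hRp, hR]
    rw [hset, ← hwdef, hwe]
    rw [hε, hf] at hrel
    have hb : (b : ℤ) = e - 1 - a := by omega
    have hkw' : (e : ℤ) * ((k : ℤ) + 1) = p - 1 := by
      rw [hwe] at hkw
      have : ((e * (k + 1) : ℕ) : ℤ) = ((p - 1 : ℕ) : ℤ) := by rw [hkw]
      push_cast [Nat.cast_sub (show 1 ≤ p by omega)] at this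
      exact this
    push_cast [Nat.cast_sub (show 1 ≤ p by omega), Nat.cast_sub (show e ≤ p by omega)] at hrel
    rw [hb] at hrel
    zify
    refine mul_left_cancel₀ (show (p : ℤ) ≠ 0 by exact_mod_cast hp.ne_zero) ?_
    linear_combination -hrel

end CfsgLib.BrauerReynolds
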