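import Mathlib
import Cfsg.Agent.BrauerReynolds.Degrees

/-!
The involution inverting the Sylow subgroup: its character values and the order of its centraliser.
-/

set_option autoImplicit false
set_option linter.style.haveILetI false
set_option linter.unusedSectionVars false

namespace CfsgLib.BrauerReynolds

open Cfsg CfsgLib.CharBasics CfsgLib.DefectOne
open scoped ComplexConjugate

universe u

variable {G : Type u} [Group G] [Fintype G] {p : ℕ} [Fact p.Prime] (D : Data G p)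

theorem eq_one_of_card_V (hV : Nat.card D.V = 1) (v : D.V) : v = 1 := by
  haveI := (Nat.card_eq_one_iff_unique.1 hV).1
  exact Subsingleton.elim _ _

theorem irr_V_eq_one (hV : Nat.card D.V = 1) (φ : IrrCharacter D.V) : φ = D.one := by
  have hdeg : charDegree (φ : D.V → ℂ) = 1 :=
    Nat.dvd_one.1 (hV ▸ CharBasics.degree_dvd φ)
  refine Subtype.ext (funext fun v => ?_)
  rw [eq_one_of_card_V D hV v, D.one_apply, apply_one (isCharacter_of_irr φ.2), hdeg, Nat.cast_one]

/-- The sum of a character over the Sylow subgroup. -/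
theorem sum_pow_eq (hV : Nat.card D.V = 1) (χ : IrrCharacter G) :
    ∑ i : ZMod p, (χ : G → ℂ) (D.x ^ i.val) =
      (charDegree (χ : G → ℂ) : ℂ) - (D.S χ D.one : ℂ) := by
  haveI : Subsingleton (IrrCharacter D.V) :=
    ⟨fun a b => (irr_V_eq_one D hV a).trans (irr_V_eq_one D hV b).symm⟩
  have h := D.apply_V (isClassFunction (isCharacter_of_irr χ.2)) 1
  rw [Fintype.sum_subsingleton _ D.one, D.one_apply, mul_one, OneMemClass.coe_one, OneMemClass.coe_one,
    apply_one (isCharacter_of_irr χ.2)] at h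
  rw [h, Data.S, Int.cast_sum]
  simp only [D.d_eq, add_sub_cancel_right]
  have hcc : ∀ i : ZMod p, D.cc (χ : G → ℂ) i (D.one : D.V → ℂ) = (χ : G → ℂ) (D.x ^ i.val) := fun i => by
    haveI := (Nat.card_eq_one_iff_unique.1 hV).1
    rw [Data.cc, classInner_eq, hV, Fintype.sum_subsingleton _ (1 : D.V), D.one_apply]
    simp [Data.pt]
  simp only [Data.mm, hcc, mul_zero, Data.ee_zero, map_one, mul_one]
  rw [← mul_assoc, mul_inv_cancel₀ Data.natCast_p_ne_zero, one_mul]

theorem apply_x_rest (hV : Nat.card D.V = 1) {M : Ideal AlgInt} (hM : IsPModular p M) (F : D.Family D.one)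
    {χ : IrrCharacter G} (hχ : χ ∈ D.rest F) : (χ : G → ℂ) D.x = -(D.d χ 1 D.one : ℂ) := by
  have h := D.apply_pt_rest hM F hχ (i := 1) one_ne_zero 1
  rw [D.osum_one, mul_one] at h
  rw [← h]
  simp [Data.pt, ZMod.val_one]

theorem apply_x_outside (hV : Nat.card D.V = 1) {χ : IrrCharacter G} (h : χ ∉ D.blk D.one) :
    (χ : G → ℂ) D.x = 0 :=
  D.vanish_of_not_blk (fun φ => irr_V_eq_one D hV φ ▸ h) (dvd_of_eq D.hx.symm)

theorem S_outside {χ : IrrCharacter G} (h : χ ∉ D.blk D.one) : D.S χ D.one = 0 := by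
  refine Finset.sum_eq_zero fun j _ => ?_
  by_contra hne
  exact h ⟨j, hne⟩

/-- An involution of the complement inverting the Sylow subgroup. -/
structure Inverting (z : G) : Prop where
  mul_self : z * z = 1
  ne_one : z ≠ 1
  inverts : z * D.x * z = D.x⁻¹
  only : ∀ b : G, b * b = 1 → b * D.x * b = D.x⁻¹ → ∃ i : ℕ, b = D.x ^ i * z

theorem exists_inverting (hV : Nat.card D.V = 1) (hev : 2 ∣ Nat.card D.H) : ∃ z, Inverting D z := by
  haveI : Fact (Nat.Prime 2) := ⟨Nat.prime_two⟩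
  obtain ⟨z, hz⟩ := exists_prime_orderOf_dvd_card' 2 hev
  have hp2 : p ≠ 2 := fun e => D.hHp (e ▸ hev)
  have hp : p.Prime := Fact.out
  have hz2 : z * z = 1 := by rw [← sq, ← hz]; exact pow_orderOf_eq_one z
  have hz1 : z ≠ 1 := fun e => by rw [e, orderOf_one] at hz; omega
  have hrinj : ∀ a b : D.H, D.r a = D.r b → a = b := fun a b hab => by
    have h1 : D.rHom (a⁻¹ * b) = 1 := by
      rw [map_mul, map_inv, inv_mul_eq_one, Units.ext_iff, D.rHom_apply, D.rHom_apply]
      exact hab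
    rw [← MonoidHom.mem_ker, D.ker_rHom] at h1
    have h2 := eq_one_of_card_V D hV ⟨_, h1⟩
    exact inv_mul_eq_one.1 (congrArg Subtype.val h2)
  have hrz : D.r z = -1 := by
    have h1 : D.r z * D.r z = 1 := by rw [← D.r_mul, hz2, D.r_one]
    rcases mul_self_eq_one_iff.1 h1 with h | h
    · exact absurd (hrinj z 1 (h.trans D.r_one.symm)) hz1
    · exact h
  have hneg : D.x ^ (-1 : ZMod p).val = D.x⁻¹ := by
    refine eq_inv_of_mul_eq_one_left ?_
    rw [← pow_succ, ← orderOf_dvd_iff_pow_eq_one, D.hx, ← ZMod.natCast_eq_zero_iff]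
    simp
  have hzG : (z : G) * (z : G) = 1 := by rw [← Subgroup.coe_mul, hz2, OneMemClass.coe_one]
  have hzinv : (z : G)⁻¹ = z := inv_eq_of_mul_eq_one_right hzG
  have hzx : (z : G) * D.x * z = D.x⁻¹ := by
    have h1 := D.conj_x z
    rw [hrz, hneg, hzinv] at h1
    exact h1
  refine ⟨z, hzG, fun e => hz1 (Subtype.ext e), hzx, fun b hb hbx => ?_⟩
  have hbinv : b⁻¹ = b := inv_eq_of_mul_eq_one_right hb
  obtain ⟨a, ha, h, hh, rfl⟩ := D.hN b (by rw [hbinv, hbx]; exact inv_mem (Subgroup.mem_zpowers _))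
  obtain ⟨i, rfl⟩ := mem_powers_iff_mem_zpowers.2 ha
  refine ⟨i, congrArg (D.x ^ i * ·) ?_⟩
  have hr : D.r ⟨h, hh⟩ = D.r z := by
    rw [hrz]
    refine D.r_eq ?_
    simp only at hbx hbinv ⊢
    rw [hneg, ← hbx]
    rw [show D.x ^ i * h * D.x * (D.x ^ i * h) = D.x ^ i * h * D.x * (D.x ^ i * h)⁻¹ by rw [hbinv]]
    have hc : Commute (D.x ^ i) D.x := Commute.pow_self _ _
    calc h * D.x * h⁻¹ = (D.x ^ i) * (h * D.x * h⁻¹) * (D.x ^ i)⁻¹ := by
          rw [show h * D.x * h⁻¹ = D.x ^ _ from D.conj_x ⟨h, hh⟩, (hc.pow_right _).eq, mul_inv_cancel_right]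
      _ = _ := by simp only [mul_inv_rev, mul_assoc]
  exact congrArg Subtype.val (hrinj _ _ hr)

/-- Every element `x ^ i * z` is conjugate to `z`. -/
theorem Inverting.isConj {z : G} (hz : Inverting D z) (hp2 : p ≠ 2) (i : ℕ) : IsConj (D.x ^ i * z) z := by
  have hp : p.Prime := Fact.out
  have h2 : (2 : ZMod p) ≠ 0 := fun h => hp2 (by
    have h' : ((2 : ℕ) : ZMod p) = 0 := by exact_mod_cast h
    rw [ZMod.natCast_eq_zero_iff] at h'
    exact (Nat.prime_dvd_prime_iff_eq hp Nat.prime_two).1 h')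
  set j := ((2 : ZMod p)⁻¹ * (i : ZMod p)).val with hj
  have hzinv : z⁻¹ = z := inv_eq_of_mul_eq_one_right hz.mul_self
  have hzj : z * (D.x ^ j)⁻¹ = D.x ^ j * z := by
    have h1 : z * D.x ^ j * z = (D.x ^ j)⁻¹ := by
      conv_lhs => rw [show z * D.x ^ j * z = z * D.x ^ j * z⁻¹ by rw [hzinv], ← _root_.conj_pow, hzinv, hz.inverts]
      rw [inv_pow]
    rw [← h1, ← mul_assoc, ← mul_assoc, hz.mul_self, one_mul]
  have e : D.x ^ i = D.x ^ j * D.x ^ j := by
    rw [← pow_add, D.pow_eq_iff, hj, Nat.cast_add, ZMod.natCast_zmod_val]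
    field_simp
    ring
  refine (isConj_iff.2 ⟨D.x ^ j, ?_⟩ : IsConj z _).symm
  rw [e, mul_assoc, hzj, mul_assoc]

end CfsgLib.BrauerReynolds
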