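import Mathlib
import Cfsg.Agent.BrauerReynolds.Values

/-!
With more than `p + 1` Sylow `p`-subgroups the centraliser of an inverting involution is elementary abelian of
order `p - 1`, a power of two.
-/

set_option autoImplicit false
set_option linter.style.haveILetI false
set_option linter.unusedSectionVars false

namespace CfsgLib.BrauerReynolds

open Cfsg CfsgLib.CharBasics CfsgLib.DefectOne
open scoped ComplexConjugate

universe u

variable {G : Type u} [Group G] [Fintype G] {p : ℕ} [Fact p.Prime] {D : Data G p} {k : ℕ}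

theorem Hyp.involution (h : Hyp D k) :
    ∃ (z : G) (m : ℕ), 2 ≤ m ∧ p = 2 ^ m + 1 ∧ z ≠ 1 ∧ z * z = 1 ∧
      Nat.card (Subgroup.centralizer ({z} : Set G)) = 2 ^ m ∧
      (∀ t ∈ Subgroup.centralizer ({z} : Set G), t * t = 1) ∧
      (∀ t ∈ Subgroup.centralizer ({z} : Set G), t ≠ 1 → IsConj t z) ∧
      Nat.card G = (2 ^ m + 1) * (2 ^ m * (2 ^ m - 1)) := by
  classical
  haveI : Fintype (IrrCharacter G) := Fintype.ofFinite _
  have hp : p.Prime := Fact.out
  obtain ⟨hw2, hwk, hp5⟩ := h.bounds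
  have hk := h.two_le
  obtain ⟨M, hM⟩ := CfsgLib.Blocks.exists_modular hp
  obtain ⟨F⟩ := D.exists_family hM D.one
  obtain ⟨hV, hek, hidx, hε, hone, hd1, hdpos, hdneg, hdθ, hcount⟩ := h.shape hM F
  set e := Nat.card D.H with hedef
  set K := k + 1 with hK
  set a := Nat.card {χ : IrrCharacter G // χ ∈ D.rest F ∧ χ ≠ oneChar ∧ D.d χ 1 D.one = -1} with hadef
  have hp2 : p ≠ 2 := by omega
  have hUe : Nat.card (D.U D.one) = e := by
    rw [D.card_U_one, hedef, ← Subgroup.index_mul_card D.V, hV, mul_one]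
  have heven : 2 ∣ e := by
    obtain ⟨q, hq⟩ := hp.odd_of_ne_two hp2
    have h2 : 2 ∣ e * K := ⟨q, by omega⟩
    rcases Nat.prime_two.dvd_mul.1 h2 with h3 | h3
    · exact h3
    · rw [← hcount]; exact dvd_add (h3.mul_left a) (dvd_refl 2)
  obtain ⟨z, hz⟩ := exists_inverting D hV heven
  have hoz : orderOf z = 2 := orderOf_eq_prime (by rw [sq]; exact hz.mul_self) hz.ne_one
  have hreg : ¬ p ∣ orderOf z := by
    rw [hoz]; exact fun hd => hp2 ((Nat.prime_dvd_prime_iff_eq hp Nat.prime_two).1 hd)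
  choose uv huv mv hmv hle hpar using fun χ : IrrCharacter G =>
    exists_int_of_inverting D.hx hp2 hz.mul_self hz.inverts (isCharacter_of_irr χ.2)
  have hpm : ∀ χ : IrrCharacter G, (p : ℤ) * mv χ = (charDegree (χ : G → ℂ) : ℤ) - D.S χ D.one := fun χ => by
    apply Int.cast_injective (α := ℂ)
    push_cast
    rw [← hmv, sum_pow_eq D hV]
  have hdegc : ∀ χ : IrrCharacter G, (χ : G → ℂ) 1 = (charDegree (χ : G → ℂ) : ℂ) := fun χ =>
    apply_one (isCharacter_of_irr χ.2)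
  -- the numbers
  set n := k * p + 1 with hn
  set f := p - e with hf
  have hek' : e * K = p - 1 := hek
  have hep : e < p := by nlinarith
  have hfpos : 0 < f := by omega
  have zp : (p : ℤ) = (e : ℤ) * K + 1 := by
    have h1 : ((e * K : ℕ) : ℤ) = ((p - 1 : ℕ) : ℤ) := by rw [hek']
    push_cast [Nat.cast_sub (show 1 ≤ p by omega)] at h1
    linarith
  have zf : (f : ℤ) = (k : ℤ) * e + 1 := by
    rw [hf, Nat.cast_sub hep.le, zp, hK]; push_cast; ring
  have zn : (n : ℤ) = (K : ℤ) * f := by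
    rw [zf, hn]; push_cast; rw [zp, hK]; push_cast; ring
  have zK : (K : ℤ) = k + 1 := by rw [hK]; push_cast; rfl
  -- the sets of characters
  set R := Finset.univ.filter (fun χ : IrrCharacter G => χ ∈ D.rest F) with hR
  set Rp := R.filter (fun χ => χ ≠ oneChar ∧ D.d χ 1 D.one = -1) with hRp
  set Rn := R.filter (fun χ => D.d χ 1 D.one = 1) with hRn
  set O := Finset.univ.filter (fun χ : IrrCharacter G => χ ∉ D.blk D.one) with hO
  have hmemR : ∀ {χ}, χ ∈ R ↔ χ ∈ D.rest F := fun {χ} => by simp [hR]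
  have hap : Rp.card = a := by
    rw [hadef, Nat.card_eq_fintype_card]
    exact (Fintype.card_of_subtype Rp fun χ => by simp [hRp, hR]).symm
  have hsplitR : R = insert oneChar (Rp ∪ Rn) := by
    ext χ
    simp only [Finset.mem_insert, Finset.mem_union, hRp, hRn, Finset.mem_filter, hmemR]
    refine ⟨fun hχ => ?_, ?_⟩
    · by_cases h1 : χ = oneChar
      · exact Or.inl h1
      · rcases D.rest_d hM F hχ with h2 | h2
        · exact Or.inr (Or.inr ⟨hχ, h2⟩)
        · exact Or.inr (Or.inl ⟨hχ, h1, h2⟩)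
    · rintro (rfl | ⟨hχ, -⟩ | ⟨hχ, -⟩)
      · exact hone
      all_goals exact hχ
  have hnotR : (oneChar : IrrCharacter G) ∉ Rp ∪ Rn := by
    simp only [Finset.mem_union, hRp, hRn, Finset.mem_filter, hd1]
    norm_num
  have hdisjR : Disjoint Rp Rn := Finset.disjoint_left.2 fun χ h1 h2 => by
    have := (Finset.mem_filter.1 h1).2.2
    have := (Finset.mem_filter.1 h2).2
    omega
  have hbn : (Rn.card : ℤ) = (e : ℤ) - 1 - a := by
    have h1 : R.card = e := by
      rw [← hUe, ← D.card_rest hM F, Nat.card_eq_fintype_card]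
      exact (Fintype.card_of_subtype R fun χ => hmemR).symm
    rw [hsplitR, Finset.card_insert_of_notMem hnotR, Finset.card_union_of_disjoint hdisjR, hap] at h1
    omega
  have hYK : Fintype.card (D.Idx D.one) = K := by rw [D.card_Idx, hidx]
  have hsplit : ∀ φ : IrrCharacter G → ℂ, ∑ χ, φ χ =
      φ oneChar + ∑ χ ∈ Rp, φ χ + ∑ χ ∈ Rn, φ χ + ∑ q, φ (F.θ q) + ∑ χ ∈ O, φ χ := by
    intro φ
    have hu : (Finset.univ : Finset (IrrCharacter G)) = R ∪ Finset.univ.image F.θ ∪ O := by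
      ext χ
      simp only [Finset.mem_union, Finset.mem_univ, true_iff, hR, hO, Finset.mem_filter, true_and, Finset.mem_image]
      by_cases hb : χ ∈ D.blk D.one
      · rw [D.blk_eq_union F] at hb
        rcases hb with hb | ⟨q, hq⟩
        · exact Or.inl (Or.inl hb)
        · exact Or.inl (Or.inr ⟨q, hq⟩)
      · exact Or.inr hb
    have h1 : Disjoint R (Finset.univ.image F.θ) := Finset.disjoint_left.2 fun χ hχ hq => by
      obtain ⟨q, -, rfl⟩ := Finset.mem_image.1 hq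
      exact (hmemR.1 hχ).2 ⟨q, rfl⟩
    have h2 : Disjoint (R ∪ Finset.univ.image F.θ) O := Finset.disjoint_left.2 fun χ hχ hq => by
      refine (Finset.mem_filter.1 hq).2 ?_
      rcases Finset.mem_union.1 hχ with h3 | h3
      · exact (hmemR.1 h3).1
      · obtain ⟨q, -, rfl⟩ := Finset.mem_image.1 h3
        exact D.theta_mem_blk F q
    rw [hu, Finset.sum_union h2, Finset.sum_union h1, hsplitR, Finset.sum_insert hnotR, Finset.sum_union hdisjR,
      Finset.sum_image fun q _ q' _ hqq => F.inj hqq]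
    ring
  -- the individual classes
  have hone' : charDegree ((oneChar : IrrCharacter G) : G → ℂ) = 1 := by
    have h1 := hdegc (oneChar : IrrCharacter G)
    rw [oneChar_apply] at h1
    exact_mod_cast h1.symm
  have huone : uv oneChar = 1 := by
    have h1 := huv (oneChar : IrrCharacter G)
    rw [oneChar_apply] at h1
    exact_mod_cast h1.symm
  have hRpd : ∀ χ ∈ Rp, charDegree (χ : G → ℂ) = n ∧ (χ : G → ℂ) D.x = 1 ∧ |uv χ| ≤ (K : ℤ) := by
    intro χ hχ
    obtain ⟨h1, h2, h3⟩ := Finset.mem_filter.1 hχ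
    have hd := hdpos χ (hmemR.1 h1) h2 h3
    refine ⟨hd, by rw [apply_x_rest D hV hM F (hmemR.1 h1), h3]; simp, ?_⟩
    have h4 := hpm χ
    rw [hd, D.S_rest F (hmemR.1 h1), h3] at h4
    have h5 : (mv χ : ℤ) = K := by
      refine mul_left_cancel₀ (show (p : ℤ) ≠ 0 by exact_mod_cast hp.ne_zero) ?_
      rw [h4, zK, hn]; push_cast; ring
    exact h5 ▸ hle χ
  have hRnd : ∀ χ ∈ Rn, charDegree (χ : G → ℂ) = p - 1 ∧ (χ : G → ℂ) D.x = -1 ∧ uv χ = 0 := by
    intro χ hχ
    obtain ⟨h1, h3⟩ := Finset.mem_filter.1 hχ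
    have hd := hdneg χ (hmemR.1 h1) h3
    refine ⟨hd, by rw [apply_x_rest D hV hM F (hmemR.1 h1), h3]; simp, ?_⟩
    have h4 := hpm χ
    rw [hd, D.S_rest F (hmemR.1 h1), h3, Nat.cast_sub (show 1 ≤ p by omega)] at h4
    have h5 : (mv χ : ℤ) = 0 := by
      refine mul_left_cancel₀ (show (p : ℤ) ≠ 0 by exact_mod_cast hp.ne_zero) ?_
      rw [h4]; push_cast; ring
    have := abs_le.1 (hle χ)
    omega
  have hθd : ∀ q, uv (F.θ q) = uv (F.θ 1) := fun q => by
    apply Int.cast_injective (α := ℂ)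
    rw [← huv, ← huv]
    exact D.theta_regular F q hreg
  set t := uv (F.θ 1) with ht
  have ht1 : t = 1 ∨ t = -1 := by
    have h4 := hpm (F.θ 1)
    rw [hdθ, D.S_theta, hε, hUe, Nat.cast_sub hep.le] at h4
    have h5 : (mv (F.θ 1) : ℤ) = 1 := by
      refine mul_left_cancel₀ (show (p : ℤ) ≠ 0 by exact_mod_cast hp.ne_zero) ?_
      rw [h4]; ring
    have h6 := abs_le.1 (hle (F.θ 1))
    have h7 := hpar (F.θ 1)
    rw [← ht] at h6 h7
    omega
  have hOd : ∀ χ ∈ O, (charDegree (χ : G → ℂ) : ℤ) = p * mv χ ∧ (χ : G → ℂ) D.x = 0 ∧ |uv χ| ≤ (mv χ : ℤ) ∧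
      0 < mv χ := by
    intro χ hχ
    have hb : χ ∉ D.blk D.one := (Finset.mem_filter.1 hχ).2
    have h4 := hpm χ
    rw [S_outside D hb, sub_zero] at h4
    refine ⟨h4.symm, apply_x_outside D hV hb, hle χ, ?_⟩
    have := charDegree_pos χ.2
    rcases Nat.eq_zero_or_pos (mv χ) with h0 | h0
    · rw [h0] at h4; simp at h4; omega
    · exact h0
  set A := ∑ χ ∈ Rp, uv χ with hA
  set S2 := ∑ χ ∈ Rp, uv χ ^ 2 with hS2
  -- the relation at `z`
  have hrel : t = -1 - A := by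
    have h1 := D.regular_relation F 1 (g := z) hreg
    rw [finsum_mem_eq_sum_of_subset (t := R) _ (fun χ hχ => hmemR.2 hχ.1) (fun χ hχ => hmemR.1 hχ), hsplitR,
      Finset.sum_insert hnotR, Finset.sum_union hdisjR, hε, hd1, oneChar_apply, huv (F.θ 1),
      Finset.sum_congr rfl (g := fun χ => -(uv χ : ℂ)) (fun χ hχ => by
        rw [(Finset.mem_filter.1 hχ).2.2, huv]; simp),
      Finset.sum_congr rfl (s₁ := Rn) (g := fun _ => (0 : ℂ)) (fun χ hχ => by
        rw [huv, (hRnd χ hχ).2.2]; simp), Finset.sum_const_zero, Finset.sum_neg_distrib, add_zero] at h1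
    apply Int.cast_injective (α := ℂ)
    rw [ht, hA]
    push_cast at h1 ⊢
    linear_combination -h1
  -- orthogonality with the identity
  have hC : ∑ χ ∈ O, (mv χ : ℤ) * uv χ = k := by
    have h0 := sum_col (1 : G) z
    rw [if_neg (fun hc => hz.ne_one (isConj_one_right.1 hc))] at h0
    simp only [hdegc, huv, map_intCast] at h0
    rw [hsplit, hone', huone, Finset.sum_congr rfl (g := fun χ => (n : ℂ) * (uv χ : ℂ)) (fun χ hχ => by
        rw [(hRpd χ hχ).1]),
      Finset.sum_congr rfl (s₁ := Rn) (g := fun _ => (0 : ℂ)) (fun χ hχ => by rw [(hRnd χ hχ).2.2]; simp),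
      Finset.sum_congr rfl (s₁ := Finset.univ) (g := fun _ => (f : ℂ) * (t : ℂ))
        (fun q _ => by rw [hdθ, hθd]),
      Finset.sum_congr rfl (s₁ := O) (g := fun χ => (p : ℂ) * ((mv χ : ℂ) * (uv χ : ℂ))) (fun χ hχ => by
        rw [← mul_assoc]
        congr 1
        exact_mod_cast (hOd χ hχ).1),
      Finset.sum_const_zero, Finset.sum_const, Finset.card_univ, hYK, ← Finset.mul_sum, ← Finset.mul_sum,
      nsmul_eq_mul] at h0
    refine mul_left_cancel₀ (show (p : ℤ) ≠ 0 by exact_mod_cast hp.ne_zero) ?_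
    have h1 : 1 + (n : ℤ) * A + (K : ℤ) * ((f : ℤ) * t) + (p : ℤ) * ∑ χ ∈ O, (mv χ : ℤ) * uv χ = 0 := by
      apply Int.cast_injective (α := ℂ)
      rw [hA]
      push_cast at h0 ⊢
      linear_combination h0
    have h2 : (n : ℤ) = k * p + 1 := by rw [hn]; push_cast; rfl
    rw [hrel] at h1
    linear_combination h1 - (1 + A) * zn + h2
  -- the squares of the degrees
  have hm2 : ∑ χ ∈ O, (mv χ : ℤ) ^ 2 = k := by
    have h0 : ∑ χ : IrrCharacter G, (charDegree (χ : G → ℂ) : ℂ) ^ 2 = (Nat.card G : ℂ) := by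
      rw [← sum_deg_sq (G := G)]; push_cast; rfl
    rw [hsplit, hone', Finset.sum_congr rfl (g := fun _ => (n : ℂ) ^ 2) (fun χ hχ => by rw [(hRpd χ hχ).1]),
      Finset.sum_congr rfl (s₁ := Rn) (g := fun _ => ((p - 1 : ℕ) : ℂ) ^ 2) (fun χ hχ => by rw [(hRnd χ hχ).1]),
      Finset.sum_congr rfl (s₁ := Finset.univ) (g := fun _ => (f : ℂ) ^ 2) (fun q _ => by rw [hdθ]),
      Finset.sum_congr rfl (s₁ := O) (g := fun χ => (p : ℂ) ^ 2 * (mv χ : ℂ) ^ 2) (fun χ hχ => by
        rw [← mul_pow]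
        congr 1
        exact_mod_cast (hOd χ hχ).1),
      Finset.sum_const, Finset.sum_const, Finset.sum_const, Finset.card_univ, hYK, hap, h.card_eq, ← hn,
      ← hedef, ← Finset.mul_sum, nsmul_eq_mul, nsmul_eq_mul, nsmul_eq_mul] at h0
    refine mul_left_cancel₀ (show (p : ℤ) ^ 2 ≠ 0 by exact pow_ne_zero 2 (by exact_mod_cast hp.ne_zero)) ?_
    have h1 : 1 + (a : ℤ) * (n : ℤ) ^ 2 + (Rn.card : ℤ) * ((p - 1 : ℕ) : ℤ) ^ 2 + (K : ℤ) * (f : ℤ) ^ 2 +
        (p : ℤ) ^ 2 * ∑ χ ∈ O, (mv χ : ℤ) ^ 2 = p * (e * n) := by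
      apply Int.cast_injective (α := ℂ)
      push_cast at h0 ⊢
      linear_combination h0
    have ha : (a : ℤ) * K = (e : ℤ) - 2 := by
      have : ((a * K + 2 : ℕ) : ℤ) = (e : ℤ) := by rw [hK, hcount]
      push_cast at this
      linarith
    rw [hbn, Nat.cast_sub (show 1 ≤ p by omega), zn, zf, zp] at h1
    rw [zp]
    rw [zK] at h1 ha ⊢
    push_cast at h1 ⊢
    have e1 : (a : ℤ) * (((k : ℤ) + 1) * ((k : ℤ) * e + 1)) ^ 2 - (a : ℤ) * ((e : ℤ) * ((k : ℤ) + 1)) ^ 2 =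
        ((e : ℤ) - 2) * ((k : ℤ) + 1) * (((k : ℤ) * e + 1) ^ 2 - (e : ℤ) ^ 2) := by
      rw [← ha]; ring
    linear_combination h1 - e1
  have hmu : ∀ χ ∈ O, uv χ = mv χ := by
    have h0 : ∑ χ ∈ O, (mv χ : ℤ) * ((mv χ : ℤ) - uv χ) = 0 := by
      simp only [mul_sub, Finset.sum_sub_distrib, ← sq, hm2, hC, sub_self]
    have h1 := (Finset.sum_eq_zero_iff_of_nonneg fun χ hχ => mul_nonneg (Int.natCast_nonneg _)
      (by have := abs_le.1 (hOd χ hχ).2.2.1; omega)).1 h0
    intro χ hχ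
    rcases mul_eq_zero.1 (h1 χ hχ) with h2 | h2
    · have := (hOd χ hχ).2.2.2
      omega
    · omega
  -- the centraliser of `z`
  set c := Nat.card (Subgroup.centralizer ({z} : Set G)) with hc
  have hcS : (c : ℤ) = 2 * K + S2 := by
    have h0 := sum_col z z
    rw [if_pos (IsConj.refl z)] at h0
    simp only [huv, map_intCast] at h0
    have h1 : ∑ χ : IrrCharacter G, ((uv χ : ℂ)) * (uv χ : ℂ) = ((1 + S2 + K + k : ℤ) : ℂ) := by
      rw [hsplit, huone, Finset.sum_congr rfl (s₁ := Rn) (g := fun _ => (0 : ℂ)) (fun χ hχ => by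
          rw [(hRnd χ hχ).2.2]; simp),
        Finset.sum_congr rfl (s₁ := Finset.univ) (g := fun _ => (1 : ℂ)) (fun q _ => by
          rw [hθd]; rcases ht1 with h2 | h2 <;> rw [h2] <;> norm_num),
        Finset.sum_congr rfl (s₁ := O) (g := fun χ => (((mv χ : ℤ) ^ 2 : ℤ) : ℂ)) (fun χ hχ => by
          rw [hmu χ hχ]; push_cast; ring),
        ← Int.cast_sum (R := ℂ), hm2, Finset.sum_const_zero, Finset.sum_const, Finset.card_univ, hYK, hS2]
      push_cast
      simp [sq]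
    rw [h1, ← hc] at h0
    have h2 : (c : ℤ) = 1 + S2 + K + k := by
      apply Int.cast_injective (α := ℂ)
      rw [h0]; norm_num
    rw [h2, zK]; ring
  have hpairx : Nat.card {b : G // IsConj b z ∧ IsConj (b⁻¹ * D.x) z} = p := by
    have hzinv : z⁻¹ = z := inv_eq_of_mul_eq_one_right hz.mul_self
    have hinvol : ∀ b, IsConj b z → b * b = 1 := fun b hb => by
      obtain ⟨y, hy⟩ := isConj_iff.1 hb.symm
      rw [← hy, show y * z * y⁻¹ * (y * z * y⁻¹) = y * (z * z) * y⁻¹ by group, hz.mul_self, mul_one, mul_inv_cancel]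
    refine (Nat.card_congr (Equiv.ofBijective (fun i : ZMod p => (⟨D.x ^ i.val * z,
      hz.isConj D hp2 i.val, ?_⟩ : {b : G // IsConj b z ∧ IsConj (b⁻¹ * D.x) z})) ⟨?_, ?_⟩)).symm.trans
      (Nat.card_zmod p)
    · obtain ⟨j, hj⟩ : ∃ j : ℕ, (D.x ^ i.val * z)⁻¹ * D.x = D.x ^ j * z := by
        refine ⟨i.val + (p - 1), ?_⟩
        have hxp : D.x ^ (p - 1) = D.x⁻¹ := eq_inv_of_mul_eq_one_left (by
          rw [← pow_succ, show p - 1 + 1 = p by omega, ← orderOf_dvd_iff_pow_eq_one, D.hx])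
        rw [mul_inv_rev, hzinv, pow_add, hxp]
        have h1 : ∀ n : ℕ, z * (D.x ^ n)⁻¹ = D.x ^ n * z := fun n => by
          have h2 : z * D.x ^ n * z = (D.x ^ n)⁻¹ := by
            conv_lhs => rw [show z * D.x ^ n * z = z * D.x ^ n * z⁻¹ by rw [hzinv], ← _root_.conj_pow, hzinv, hz.inverts]
            rw [inv_pow]
          rw [← h2, ← mul_assoc, ← mul_assoc, hz.mul_self, one_mul]
        have h3 : D.x⁻¹ * z = z * D.x := by
          rw [← hz.inverts, mul_assoc, hz.mul_self, mul_one]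
        rw [h1, mul_assoc, mul_assoc, ← h3]
      rw [hj]
      exact hz.isConj D hp2 j
    · intro i j hij
      have h1 := mul_right_cancel (congrArg Subtype.val hij)
      rwa [D.pow_eq_iff, ZMod.natCast_zmod_val, ZMod.natCast_zmod_val] at h1
    · rintro ⟨b, hb1, hb2⟩
      have hbb := hinvol b hb1
      have hbinv : b⁻¹ = b := inv_eq_of_mul_eq_one_right hbb
      have hbx : b * D.x * b = D.x⁻¹ := by
        have h1 := hinvol _ hb2
        rw [hbinv] at h1
        refine eq_inv_of_mul_eq_one_left ?_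
        rw [mul_assoc]
        exact h1
      obtain ⟨i, hi⟩ := hz.only b hbb hbx
      refine ⟨(i : ZMod p), Subtype.ext ?_⟩
      show D.x ^ ((i : ZMod p)).val * z = b
      rw [hi, show D.x ^ ((i : ZMod p)).val = D.x ^ i by rw [D.pow_eq_iff, ZMod.natCast_zmod_val]]
  have hYx : ∑ q, (F.θ q : G → ℂ) D.x = 1 := by
    have h0 := sum_col D.x (1 : G)
    rw [if_neg (fun hc => hp.ne_one (by rw [← D.hx, isConj_one_left.1 hc, orderOf_one]))] at h0
    simp only [hdegc, Complex.conj_natCast] at h0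
    rw [hsplit, hone', oneChar_apply,
      Finset.sum_congr rfl (s₁ := Rp) (g := fun _ => (1 : ℂ) * (n : ℂ)) (fun χ hχ => by
        rw [(hRpd χ hχ).2.1, (hRpd χ hχ).1]),
      Finset.sum_congr rfl (s₁ := Rn) (g := fun _ => (-1 : ℂ) * ((p - 1 : ℕ) : ℂ)) (fun χ hχ => by
        rw [(hRnd χ hχ).2.1, (hRnd χ hχ).1]),
      Finset.sum_congr rfl (s₁ := O) (g := fun _ => (0 : ℂ)) (fun χ hχ => by rw [(hOd χ hχ).2.1, zero_mul]),
      Finset.sum_congr rfl (s₁ := Finset.univ) (g := fun q => (F.θ q : G → ℂ) D.x * (f : ℂ))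
        (fun q _ => by rw [hdθ]),
      Finset.sum_const, Finset.sum_const, Finset.sum_const_zero, ← Finset.sum_mul, hap, nsmul_eq_mul,
      nsmul_eq_mul] at h0
    have ha : (a : ℤ) * K = (e : ℤ) - 2 := by
      have : ((a * K + 2 : ℕ) : ℤ) = (e : ℤ) := by rw [hK, hcount]
      push_cast at this
      linarith
    have h1 : 1 + (a : ℤ) * n - (Rn.card : ℤ) * ((p - 1 : ℕ) : ℤ) = -(f : ℤ) := by
      rw [hbn, Nat.cast_sub (show 1 ≤ p by omega), zn, zf, zp]
      rw [zK] at ha ⊢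
      push_cast
      linear_combination ((k : ℤ) * e + 1 + e) * ha
    have h1' : 1 + (a : ℂ) * (n : ℂ) - (Rn.card : ℂ) * ((p - 1 : ℕ) : ℂ) = -(f : ℂ) := by exact_mod_cast h1
    refine mul_right_cancel₀ (show (f : ℂ) ≠ 0 by exact_mod_cast hfpos.ne') ?_
    linear_combination h0 - h1'
  have hnC : (n : ℂ) ≠ 0 := Nat.cast_ne_zero.2 (by omega)
  have hfC : (f : ℂ) ≠ 0 := Nat.cast_ne_zero.2 hfpos.ne'
  have hgC : (Nat.card G : ℂ) = (p : ℂ) * ((e : ℂ) * (n : ℂ)) := by rw [h.card_eq]; push_cast; rw [hn]; push_cast; rfl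
  have hnfC : (n : ℂ) = (K : ℂ) * (f : ℂ) := by exact_mod_cast zn
  have hc2 : (c : ℤ) ^ 2 = e * (n + S2 + K) := by
    have h0 := card_pairs z D.x
    simp only [huv, map_intCast, hdegc] at h0
    rw [hpairx, hsplit, huone, hone', oneChar_apply,
      Finset.sum_congr rfl (s₁ := Rp) (g := fun χ => (uv χ : ℂ) ^ 2 * (n : ℂ)⁻¹) (fun χ hχ => by
        rw [(hRpd χ hχ).2.1, (hRpd χ hχ).1, mul_one, div_eq_mul_inv]),
      Finset.sum_congr rfl (s₁ := Rn) (g := fun _ => (0 : ℂ)) (fun χ hχ => by rw [(hRnd χ hχ).2.2]; simp),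
      Finset.sum_congr rfl (s₁ := O) (g := fun _ => (0 : ℂ)) (fun χ hχ => by rw [(hOd χ hχ).2.1]; simp),
      Finset.sum_congr rfl (s₁ := Finset.univ) (g := fun q => (F.θ q : G → ℂ) D.x * (f : ℂ)⁻¹)
        (fun q _ => by
          rw [hdθ, hθd, div_eq_mul_inv]
          rcases ht1 with h2 | h2 <;> rw [h2] <;> norm_num),
      Finset.sum_const_zero, ← Finset.sum_mul, ← Finset.sum_mul, hYx, ← hc, hgC] at h0
    apply Int.cast_injective (α := ℂ)
    refine mul_left_cancel₀ (show (p : ℂ) ≠ 0 by exact_mod_cast hp.ne_zero) ?_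
    rw [hS2]
    push_cast at h0 ⊢
    have hK0 : (K : ℂ) ≠ 0 := Nat.cast_ne_zero.2 (by omega)
    simp only [Finset.sum_const_zero, add_zero] at h0
    rw [hnfC] at h0 hnC ⊢
    field_simp at h0 ⊢
    linear_combination h0
  have ha : (a : ℤ) * K = (e : ℤ) - 2 := by
    have : ((a * K + 2 : ℕ) : ℤ) = (e : ℤ) := by rw [hK, hcount]
    push_cast at this
    linarith
  have hceK : (c : ℤ) = e * K := by
    have h1 : ((c : ℤ) - e * K) * ((c : ℤ) + e * k) = 0 := by
      rw [zn, zf, zK] at hc2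
      rw [zK] at hcS ⊢
      linear_combination hc2 - (e : ℤ) * hcS
    have h2 : (0 : ℤ) < (c : ℤ) + e * k := by
      have : 0 < c := Nat.card_pos
      positivity
    rcases mul_eq_zero.1 h1 with h3 | h3
    · linarith
    · linarith
  have hKu : ∀ χ ∈ Rp, uv χ ^ 2 = (K : ℤ) ^ 2 := by
    have h0 : ∑ χ ∈ Rp, ((K : ℤ) ^ 2 - uv χ ^ 2) = 0 := by
      rw [Finset.sum_sub_distrib, Finset.sum_const, hap, nsmul_eq_mul, ← hS2]
      have : S2 = ((e : ℤ) - 2) * K := by rw [hceK] at hcS; linarith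
      rw [this, ← ha]; push_cast; ring
    have h1 := (Finset.sum_eq_zero_iff_of_nonneg fun χ hχ => sub_nonneg.2
      (sq_le_sq' (abs_le.1 (hRpd χ hχ).2.2).1 (abs_le.1 (hRpd χ hχ).2.2).2)).1 h0
    intro χ hχ
    linarith [h1 χ hχ]
  have hA0 : A = 0 := by
    obtain ⟨j, hj⟩ : (K : ℤ) ∣ A := Finset.dvd_sum fun χ hχ => by
      rcases sq_eq_sq_iff_eq_or_eq_neg.1 (hKu χ hχ) with h1 | h1 <;> rw [h1]
      exact dvd_neg.2 (dvd_refl _)
    rcases ht1 with h2 | h2
    · exfalso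
      rw [h2] at hrel
      have h3 : (K : ℤ) * j = -2 := by rw [← hj]; linarith
      have h4 : (K : ℤ) ∣ 2 := ⟨-j, by linarith⟩
      have := Int.le_of_dvd (by norm_num) h4
      omega
    · omega
  have htm : t = -1 := by omega
  -- the pairs of conjugates of `z` with product `z`
  have hpairz : Nat.card {b : G // IsConj b z ∧ IsConj (b⁻¹ * z) z} = k * e := by
    have h0 := card_pairs z z
    simp only [huv, map_intCast, hdegc] at h0
    rw [hsplit, huone, hone',
      Finset.sum_congr rfl (s₁ := Rp) (g := fun χ => (K : ℂ) ^ 2 * ((uv χ : ℂ) * (n : ℂ)⁻¹)) (fun χ hχ => by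
        rw [(hRpd χ hχ).1, show ((uv χ : ℂ)) ^ 2 = (K : ℂ) ^ 2 by exact_mod_cast hKu χ hχ, div_eq_mul_inv,
          mul_assoc]),
      Finset.sum_congr rfl (s₁ := Rn) (g := fun _ => (0 : ℂ)) (fun χ hχ => by rw [(hRnd χ hχ).2.2]; simp),
      Finset.sum_congr rfl (s₁ := O) (g := fun χ => (((mv χ : ℤ) ^ 2 : ℤ) : ℂ) * (p : ℂ)⁻¹) (fun χ hχ => by
        rw [hmu χ hχ, show ((charDegree (χ : G → ℂ) : ℂ)) = (p : ℂ) * (mv χ : ℂ) by exact_mod_cast (hOd χ hχ).1]
        have : (mv χ : ℂ) ≠ 0 := Nat.cast_ne_zero.2 (hOd χ hχ).2.2.2.ne'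
        have : (p : ℂ) ≠ 0 := Nat.cast_ne_zero.2 hp.ne_zero
        push_cast
        field_simp),
      Finset.sum_congr rfl (s₁ := Finset.univ) (g := fun _ => -(f : ℂ)⁻¹)
        (fun q _ => by rw [hdθ, hθd, htm]; field_simp; norm_num),
      ← Finset.mul_sum, ← Finset.sum_mul, ← Finset.sum_mul] at h0
    simp only [← Int.cast_sum] at h0
    rw [hm2, ← hA, hA0, Finset.sum_const_zero, Finset.sum_const, Finset.card_univ, hYK, ← hc, hgC, hnfC] at h0
    have hcC : (c : ℂ) = (e : ℂ) * (K : ℂ) := by exact_mod_cast hceK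
    have hpC : (p : ℂ) = (e : ℂ) * (K : ℂ) + 1 := by exact_mod_cast zp
    have hfeC : (f : ℂ) = (k : ℂ) * (e : ℂ) + 1 := by exact_mod_cast zf
    have hKC : (K : ℂ) = (k : ℂ) + 1 := by exact_mod_cast zK
    have hp0 : (p : ℂ) ≠ 0 := Nat.cast_ne_zero.2 hp.ne_zero
    have hK0 : (K : ℂ) ≠ 0 := Nat.cast_ne_zero.2 (by omega)
    have he0 : (e : ℂ) ≠ 0 := Nat.cast_ne_zero.2 (by omega)
    rw [hcC] at h0
    simp only [Int.cast_zero, zero_mul, mul_zero, add_zero, nsmul_eq_mul] at h0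
    have h1 : (Nat.card {b : G // IsConj b z ∧ IsConj (b⁻¹ * z) z} : ℂ) * ((e : ℂ) * (K : ℂ)) ^ 2 =
        (k : ℂ) * (e : ℂ) * ((e : ℂ) * (K : ℂ)) ^ 2 := by
      rw [h0]
      field_simp
      push_cast
      rw [hpC, hfeC, hKC]
      ring
    exact_mod_cast mul_right_cancel₀ (pow_ne_zero 2 (mul_ne_zero he0 hK0)) h1
  have hM1 : c = e * K := by exact_mod_cast hceK
  set Cz := Subgroup.centralizer ({z} : Set G) with hCz
  have hzC : z ∈ Cz := Subgroup.mem_centralizer_singleton_iff.2 rfl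
  have hconjmem : ∀ b : {b : G // IsConj b z ∧ IsConj (b⁻¹ * z) z},
      (b : G) ∈ Cz ∧ (b : G) * b = 1 ∧ (b : G) ≠ 1 ∧ (b : G) ≠ z := by
    rintro ⟨b, h1, h2⟩
    have hinvol : ∀ b, IsConj b z → b * b = 1 := fun b hb => by
      obtain ⟨y, hy⟩ := isConj_iff.1 hb.symm
      rw [← hy, show y * z * y⁻¹ * (y * z * y⁻¹) = y * (z * z) * y⁻¹ by group, hz.mul_self, mul_one, mul_inv_cancel]
    have hbb := hinvol b h1
    have hbinv : b⁻¹ = b := inv_eq_of_mul_eq_one_right hbb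
    refine ⟨?_, hbb, fun e => hz.ne_one (isConj_one_right.1 (e ▸ h1)), fun e => ?_⟩
    · rw [hCz, Subgroup.mem_centralizer_singleton_iff]
      have h3 := hinvol _ h2
      rw [hbinv] at h3
      calc b * z = (b * z) * (z * (b * b) * z) := by rw [hbb, mul_one, hz.mul_self, mul_one]
        _ = b * (z * z) * b * (b * z) := by group
        _ = (b * z)⁻¹ := by
          rw [hz.mul_self, mul_one, hbb, one_mul]
          exact (inv_eq_of_mul_eq_one_right h3).symm
        _ = z * b := by rw [mul_inv_rev, hbinv, inv_eq_of_mul_eq_one_right hz.mul_self]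
    · have e' : b = z := e
      subst e'
      rw [inv_mul_cancel] at h2
      exact hz.ne_one (isConj_one_right.1 h2)
  let T := {t : Cz // t * t = 1}
  have hT : k * e + 2 ≤ Nat.card T := by
    rw [← hpairz]
    let one' : T := ⟨1, one_mul 1⟩
    let z' : T := ⟨⟨z, hzC⟩, Subtype.ext hz.mul_self⟩
    let g : {b : G // IsConj b z ∧ IsConj (b⁻¹ * z) z} ⊕ Bool → T := fun s => match s with
      | .inl b => ⟨⟨b.1, (hconjmem b).1⟩, Subtype.ext (hconjmem b).2.1⟩
      | .inr true => z'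
      | .inr false => one'
    have hg : Function.Injective g := by
      rintro (b | (_ | _)) (b' | (_ | _)) heq <;>
        have hv := congrArg (fun t : T => ((t : Cz) : G)) heq <;> simp only [g, one', z', OneMemClass.coe_one] at hv
      · exact congrArg Sum.inl (Subtype.ext hv)
      · exact absurd hv (hconjmem b).2.2.1
      · exact absurd hv (hconjmem b).2.2.2
      · exact absurd hv.symm (hconjmem b').2.2.1
      · rfl
      · exact absurd hv.symm hz.ne_one
      · exact absurd hv.symm (hconjmem b').2.2.2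
      · exact absurd hv hz.ne_one
      · rfl
    have := Nat.card_le_card_of_injective g hg
    rwa [Nat.card_sum, Nat.card_eq_fintype_card (α := Bool), Fintype.card_bool] at this
  have hcard : Nat.card Cz = e * K := hM1
  have hk3 : 3 ≤ k := by
    by_contra hlt
    have hk2 : k = 2 := by omega
    refine not_three_dvd_of_many (G := Cz) ?_ ?_
    · rw [hcard, hK, hk2]
      rw [hk2] at hT
      show 2 * (e * (2 + 1)) < 3 * Nat.card T
      omega
    · rw [hcard, hK, hk2]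
      exact Dvd.intro_left e rfl
  have hsq : ∀ g : Cz, g * g = 1 := by
    refine sq_eq_one_of_many ?_
    rw [hcard, hK]
    show 3 * (e * (k + 1)) < 4 * Nat.card T
    have : 3 * e ≤ k * e := Nat.mul_le_mul_right e hk3
    have : 3 * (e * (k + 1)) = 3 * (k * e) + 3 * e := by ring
    omega
  obtain ⟨m, hm⟩ : ∃ m, e * K = 2 ^ m := by
    haveI : Fact (Nat.Prime 2) := ⟨Nat.prime_two⟩
    have hpg : IsPGroup 2 Cz := fun g => ⟨1, by rw [pow_one, sq]; exact hsq g⟩
    obtain ⟨m, hm⟩ := hpg.exists_card_eq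
    exact ⟨m, by rw [← hcard, hm]⟩
  have he2 : e = 2 := by
    obtain ⟨i, -, hi⟩ := (Nat.dvd_prime_pow Nat.prime_two).1 (hm ▸ Dvd.intro K rfl : e ∣ 2 ^ m)
    obtain ⟨j, -, hj⟩ := (Nat.dvd_prime_pow Nat.prime_two).1 (hm ▸ Dvd.intro_left e rfl : K ∣ 2 ^ m)
    by_contra hne
    have hi2 : 2 ≤ i := by
      by_contra hlt
      interval_cases i <;> omega
    have hj2 : 2 ≤ j := by
      by_contra hlt
      interval_cases j <;> omega
    have h4e : 4 ∣ e := hi ▸ (pow_dvd_pow 2 hi2 : 2 ^ 2 ∣ 2 ^ i)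
    have h4K : 4 ∣ a * K := (hj ▸ (pow_dvd_pow 2 hj2 : 2 ^ 2 ∣ 2 ^ j) : 4 ∣ K).mul_left a
    have : 4 ∣ 2 := (Nat.dvd_add_right h4K).1 (by rw [hK, hcount]; exact h4e)
    omega
  have hp1 : p = 2 ^ m + 1 := by omega
  have hm2' : 2 ≤ m := by
    by_contra hlt
    interval_cases m <;> omega
  refine ⟨z, m, hm2', hp1, hz.ne_one, hz.mul_self, by rw [← hm]; exact hcard,
    fun t ht => congrArg Subtype.val (hsq ⟨t, ht⟩), fun t ht ht1 => ?_, ?_⟩
  · -- all involutions of the centraliser are conjugates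
    by_cases htz : t = z
    · rw [htz]
    let g : {b : G // IsConj b z ∧ IsConj (b⁻¹ * z) z} → {u : Cz // u ≠ 1 ∧ u ≠ ⟨z, hzC⟩} := fun b =>
      ⟨⟨b.1, (hconjmem b).1⟩, fun h1 => (hconjmem b).2.2.1 (congrArg Subtype.val h1),
        fun h1 => (hconjmem b).2.2.2 (congrArg Subtype.val h1)⟩
    have hg : Function.Injective g := fun b b' hh => Subtype.ext
      (congrArg (fun u : {u : Cz // u ≠ 1 ∧ u ≠ ⟨z, hzC⟩} => ((u : Cz) : G)) hh)
    haveI := Fintype.ofFinite Cz
    have hcu : Nat.card {u : Cz // u ≠ 1 ∧ u ≠ ⟨z, hzC⟩} = Nat.card Cz - 2 := by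
      rw [Nat.card_eq_fintype_card, Nat.card_eq_fintype_card, Fintype.card_subtype]
      rw [show (Finset.univ.filter fun u : Cz => u ≠ 1 ∧ u ≠ ⟨z, hzC⟩) =
        Finset.univ \ {1, ⟨z, hzC⟩} by ext u; simp]
      rw [Finset.card_sdiff_of_subset (Finset.subset_univ _), Finset.card_univ, Finset.card_pair]
      exact fun h1 => hz.ne_one (congrArg Subtype.val h1).symm
    have hb := (Nat.bijective_iff_injective_and_card g).2 ⟨hg, by
      rw [hpairz, hcu, hcard, he2, hK]; omega⟩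
    obtain ⟨b, hb'⟩ := hb.2 ⟨⟨t, ht⟩, fun h1 => ht1 (congrArg Subtype.val h1),
      fun h1 => htz (congrArg Subtype.val h1)⟩
    have h5 : (b : G) = t := congrArg (fun u : {u : Cz // u ≠ 1 ∧ u ≠ ⟨z, hzC⟩} => ((u : Cz) : G)) hb'
    exact h5 ▸ b.2.1
  · rw [h.card_eq, ← hedef, he2, ← hp1]
    congr 1
    obtain ⟨q, hq⟩ : ∃ q, 2 ^ m = q + 1 := ⟨2 ^ m - 1, by have := Nat.one_le_two_pow (n := m); omega⟩
    rw [hq, Nat.add_sub_cancel, hp1, hq]
    rw [he2, hK] at hm
    have hq' : q + 1 = 2 * (k + 1) := by omega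
    have hq'' : q = 2 * k + 1 := by omega
    subst hq''
    ring

end CfsgLib.BrauerReynolds
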