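import Mathlib
import Cfsg.Agent.S4702

/-!
A group of order `(q + 1) q (q - 1)` with an involution whose centraliser is elementary abelian of order `q` with
all its involutions conjugate is `SL(2, q)`.
-/

set_option autoImplicit false
set_option linter.style.haveILetI false

namespace CfsgLib.BrauerReynolds

universe u

variable {G : Type u} [Group G] [Finite G]

theorem iso_sl {z : G} {m : ℕ} (hm : 2 ≤ m) (hz1 : z ≠ 1)
    (hC : Nat.card (Subgroup.centralizer ({z} : Set G)) = 2 ^ m)
    (hsq : ∀ t ∈ Subgroup.centralizer ({z} : Set G), t * t = 1)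
    (hconj : ∀ t ∈ Subgroup.centralizer ({z} : Set G), t ≠ 1 → IsConj t z)
    (hG : Nat.card G = (2 ^ m + 1) * (2 ^ m * (2 ^ m - 1))) :
    ∃ (F : Type) (_ : Field F) (_ : Fintype F), Fintype.card F = 2 ^ m ∧
      Nonempty (G ≃* Matrix.SpecialLinearGroup (Fin 2) F) := by
  classical
  haveI := Fintype.ofFinite G
  set S := Subgroup.centralizer ({z} : Set G) with hS
  set q := 2 ^ m with hq
  have hq4 : 4 ≤ q := by
    rw [hq]; exact le_trans (by norm_num) (Nat.pow_le_pow_right (by norm_num : 0 < 2) hm)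
  have hzS : z ∈ S := Subgroup.mem_centralizer_singleton_iff.2 rfl
  have hab : ∀ a ∈ S, ∀ b ∈ S, a * b = b * a := fun a ha b hb => by
    have h1 := hsq _ (mul_mem ha hb)
    calc a * b = (a * b)⁻¹ := (inv_eq_of_mul_eq_one_right h1).symm
      _ = b * a := by
        rw [mul_inv_rev, inv_eq_of_mul_eq_one_right (hsq a ha), inv_eq_of_mul_eq_one_right (hsq b hb)]
  have hcent : ∀ t ∈ S, t ≠ 1 → Subgroup.centralizer ({t} : Set G) = S := by
    intro t ht ht1
    refine (Subgroup.eq_of_le_of_card_ge (fun a ha => Subgroup.mem_centralizer_singleton_iff.2 (hab a ha t ht)) ?_).symm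
    rw [hC]
    obtain ⟨c, hc⟩ := isConj_iff.1 (hconj t ht ht1)
    refine le_trans (Nat.card_le_card_of_injective (fun a : Subgroup.centralizer ({t} : Set G) =>
      (⟨c * (a : G) * c⁻¹, ?_⟩ : S)) ?_) hC.le
    · have ha := Subgroup.mem_centralizer_singleton_iff.1 a.2
      rw [hS, Subgroup.mem_centralizer_singleton_iff, ← hc,
        show c * (a : G) * c⁻¹ * (c * t * c⁻¹) = c * ((a : G) * t) * c⁻¹ by group, ha]
      group
    · intro a b hab'
      have h1 := congrArg (fun u : S => (u : G)) hab'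
      exact Subtype.ext (mul_left_cancel (mul_right_cancel h1))
  have hnorm : ∀ g : G, ∀ t ∈ S, t ≠ 1 → g * t * g⁻¹ ∈ S → g ∈ Subgroup.normalizer (S : Set G) := by
    intro g t ht ht1 hgt
    have hgt1 : g * t * g⁻¹ ≠ 1 := fun e => ht1 (conj_eq_one_iff.1 e)
    rw [Subgroup.mem_normalizer_iff]
    intro a
    conv_lhs => rw [← hcent t ht ht1]
    conv_rhs => rw [← hcent _ hgt hgt1]
    simp only [Subgroup.mem_centralizer_singleton_iff]
    constructor
    · intro ha
      rw [show g * a * g⁻¹ * (g * t * g⁻¹) = g * (a * t) * g⁻¹ by group, ha]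
      group
    · intro ha
      rw [show g * a * g⁻¹ * (g * t * g⁻¹) = g * (a * t) * g⁻¹ by group,
        show g * t * g⁻¹ * (g * a * g⁻¹) = g * (t * a) * g⁻¹ by group] at ha
      exact mul_left_cancel (mul_right_cancel ha)
  set N := Subgroup.normalizer (S : Set G) with hN
  have hSN : S ≤ N := Subgroup.le_normalizer
  -- the normaliser is transitive on the involutions of `S`
  have hNcard : Nat.card N = (q - 1) * q := by
    have hu : ∀ u : {u : S // u ≠ 1}, ∃ n : N, (n : G) * z * (n : G)⁻¹ = ((u : S) : G) := by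
      rintro ⟨⟨u, huS⟩, hu1⟩
      have hu1' : u ≠ 1 := fun e => hu1 (Subtype.ext e)
      obtain ⟨c, hc⟩ := isConj_iff.1 (hconj u huS hu1').symm
      exact ⟨⟨c, hnorm c z hzS hz1 (by rw [hc]; exact huS)⟩, hc⟩
    choose nu hnu using hu
    have hbij : Function.Bijective (fun x : {u : S // u ≠ 1} × S => (nu x.1 * ⟨x.2, hSN x.2.2⟩ : N)) := by
      constructor
      · rintro ⟨u, c⟩ ⟨u', c'⟩ e
        have e' : ((nu u : N) : G) * (c : G) = ((nu u' : N) : G) * (c' : G) := congrArg Subtype.val e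
        have key : ∀ (v : {u : S // u ≠ 1}) (d : S),
            ((nu v : N) : G) * (d : G) * z * (((nu v : N) : G) * (d : G))⁻¹ = ((v : S) : G) := by
          intro v d
          rw [← hnu v, mul_inv_rev, mul_assoc _ (d : G) z, Subgroup.mem_centralizer_singleton_iff.1 d.2]
          group
        have : u = u' := Subtype.ext (Subtype.ext (by rw [← key u c, ← key u' c', e']))
        subst this
        exact Prod.ext rfl (Subtype.ext (mul_left_cancel e'))
      · rintro ⟨n, hn⟩
        have huS : n * z * n⁻¹ ∈ S := (Subgroup.mem_normalizer_iff.1 hn z).1 hzS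
        let u : {u : S // u ≠ 1} := ⟨⟨n * z * n⁻¹, huS⟩, fun e => hz1 (conj_eq_one_iff.1 (congrArg Subtype.val e))⟩
        refine ⟨(u, ⟨((nu u : N) : G)⁻¹ * n, ?_⟩), Subtype.ext (mul_inv_cancel_left _ _)⟩
        rw [hS, Subgroup.mem_centralizer_singleton_iff]
        have h1 : ((nu u : N) : G) * z * ((nu u : N) : G)⁻¹ = n * z * n⁻¹ := hnu u
        calc ((nu u : N) : G)⁻¹ * n * z = ((nu u : N) : G)⁻¹ * (n * z * n⁻¹) * n := by group
          _ = z * (((nu u : N) : G)⁻¹ * n) := by rw [← h1]; group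
    rw [← Nat.card_congr (Equiv.ofBijective _ hbij), Nat.card_prod, hC]
    congr 1
    haveI := Fintype.ofFinite S
    rw [Nat.card_eq_fintype_card, Fintype.card_subtype_compl, Fintype.card_subtype_eq, ← Nat.card_eq_fintype_card,
      hC]
  let Ω := G ⧸ N
  have hΩ : Nat.card Ω = q + 1 := by
    show N.index = q + 1
    have h1 := N.card_mul_index
    rw [hNcard, hG] at h1
    refine Nat.eq_of_mul_eq_mul_left (show 0 < (q - 1) * q by exact Nat.mul_pos (by omega) (by omega)) ?_
    rw [h1]; ring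
  let o : Ω := ((1 : G) : G ⧸ N)
  have hfix : ∀ g : G, g • o = o ↔ g ∈ N := fun g => by
    show ((g * 1 : G) : G ⧸ N) = ((1 : G) : G ⧸ N) ↔ _
    rw [QuotientGroup.eq, mul_one, mul_one, inv_mem_iff]
  have hoddN : ((S.subgroupOf N).index) = q - 1 := by
    have h1 := (S.subgroupOf N).card_mul_index
    rw [Nat.card_congr (Subgroup.subgroupOfEquivOfLe hSN).toEquiv, hC, hNcard, mul_comm (q - 1)] at h1
    exact Nat.eq_of_mul_eq_mul_left (by omega) h1
  have hfree : ∀ s ∈ S, ∀ b : Ω, b ≠ o → s • b = b → s = 1 := by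
    intro s hs b hb hsb
    obtain ⟨g, rfl⟩ := QuotientGroup.mk_surjective b
    by_contra hs1
    have hgN : g⁻¹ * s * g ∈ N := by
      have h1 : ((s * g : G) : G ⧸ N) = (g : G ⧸ N) := hsb
      rw [QuotientGroup.eq] at h1
      have := inv_mem h1
      simpa [mul_assoc] using this
    haveI : (S.subgroupOf N).Normal := Subgroup.normal_in_normalizer
    have h2 := Subgroup.pow_index_mem (S.subgroupOf N) (⟨_, hgN⟩ : N)
    have hsq' : (g⁻¹ * s * g) ^ 2 = 1 := by
      rw [sq, show g⁻¹ * s * g * (g⁻¹ * s * g) = g⁻¹ * (s * s) * g by group, hsq s hs, mul_one, inv_mul_cancel]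
    obtain ⟨i, hi⟩ : ∃ i, q - 1 = 2 * i + 1 := by
      refine ⟨2 ^ (m - 1) - 1, ?_⟩
      have : q = 2 * 2 ^ (m - 1) := by rw [hq, ← pow_succ']; congr 1; omega
      omega
    rw [hoddN, Subgroup.mem_subgroupOf, SubmonoidClass.coe_pow, hi, pow_succ, pow_mul, hsq', one_pow, one_mul] at h2
    refine hb ?_
    show (g : G ⧸ N) = ((1 : G) : G ⧸ N)
    rw [QuotientGroup.eq, mul_one, inv_mem_iff]
    refine hnorm g (g⁻¹ * s * g) h2 (fun e => hs1 ?_) (by simpa [mul_assoc] using hs)
    exact (conj_eq_one_iff (a := g⁻¹)).1 (by simpa using e)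
  -- `S` is regular on the other points
  have hreg : ∀ b : Ω, b ≠ o → ∀ c : Ω, c ≠ o → ∃ s ∈ S, s • b = c := by
    intro b hb c hc
    have hne : ∀ s : S, (s : G) • b ≠ o := fun s e => hb (by
      have h1 : ((s : G)⁻¹) • o = o := (hfix _).2 (hSN (inv_mem s.2))
      rw [← h1, ← e, inv_smul_smul])
    let f : S → {w : Ω // w ≠ o} := fun s => ⟨(s : G) • b, hne s⟩
    have hf : Function.Injective f := by
      intro s t e
      have e' : (s : G) • b = (t : G) • b := congrArg Subtype.val e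
      have h1 : ((t : G)⁻¹ * (s : G)) • b = b := by rw [mul_smul, e', inv_smul_smul]
      exact (Subtype.ext (inv_mul_eq_one.1 (hfree _ (mul_mem (inv_mem t.2) s.2) b hb h1))).symm
    haveI := Fintype.ofFinite Ω
    have hcard : Nat.card S = Nat.card {w : Ω // w ≠ o} := by
      rw [hC, Nat.card_eq_fintype_card, Fintype.card_subtype_compl, Fintype.card_subtype_eq,
        ← Nat.card_eq_fintype_card, hΩ, Nat.add_sub_cancel]
    obtain ⟨s, hs⟩ := ((Nat.bijective_iff_injective_and_card f).2 ⟨hf, hcard⟩).2 ⟨c, hc⟩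
    exact ⟨s, s.2, congrArg Subtype.val hs⟩
  have hthree₀ : ∀ h : G, ∀ b c : Ω, b ≠ o → c ≠ o → b ≠ c → h • o = o → h • b = b → h • c = c → h = 1 := by
    intro h b c hb hc hbc ho hhb hhc
    obtain ⟨s, hs, hsb⟩ := hreg b hb c hc
    have hhN := (hfix h).1 ho
    have hhs : h * s * h⁻¹ ∈ S := (Subgroup.mem_normalizer_iff.1 hhN s).1 hs
    have h1 : (h * s * h⁻¹) • b = c := by
      rw [mul_smul, mul_smul, inv_smul_eq_iff.2 hhb.symm, hsb, hhc]
    have h2 : s⁻¹ * (h * s * h⁻¹) = 1 :=
      hfree _ (mul_mem (inv_mem hs) hhs) b hb (by rw [mul_smul, h1, ← hsb, inv_smul_smul])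
    have hs1 : s ≠ 1 := fun e => hbc (by rw [← hsb, e, one_smul])
    have hhS : h ∈ S := by
      rw [← hcent s hs hs1, Subgroup.mem_centralizer_singleton_iff]
      exact mul_inv_eq_iff_eq_mul.1 (inv_mul_eq_one.1 h2).symm
    exact hfree h hhS b hb hhb
  have hthree : ∀ h : G, ∀ a b c : Ω, a ≠ b → a ≠ c → b ≠ c → h • a = a → h • b = b → h • c = c → h = 1 := by
    intro h a b c hab' hac hbc ha hb hc
    obtain ⟨g, hg⟩ := MulAction.exists_smul_eq G a o
    have key : ∀ w : Ω, h • w = w → (g * h * g⁻¹) • (g • w) = g • w := fun w hw => by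
      rw [mul_smul, mul_smul, inv_smul_smul, hw]
    have h1 := hthree₀ (g * h * g⁻¹) (g • b) (g • c) (by rw [← hg]; exact fun e => hab' (MulAction.injective g e).symm)
      (by rw [← hg]; exact fun e => hac (MulAction.injective g e).symm) (fun e => hbc (MulAction.injective g e))
      (by rw [← hg]; exact key a ha) (key b hb) (key c hc)
    exact conj_eq_one_iff.1 h1
  have hstab : ∀ (g : G) (x : Fin 3 ↪ Ω), (∀ i, g • x i = x i) → g = 1 := fun g x h =>
    hthree g (x 0) (x 1) (x 2) (fun e => absurd (x.injective e) (by decide))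
      (fun e => absurd (x.injective e) (by decide)) (fun e => absurd (x.injective e) (by decide)) (h 0) (h 1) (h 2)
  haveI := Fintype.ofFinite Ω
  have hΩ' : Fintype.card Ω = q + 1 := by rw [← Nat.card_eq_fintype_card, hΩ]
  have hcardemb : Nat.card (Fin 3 ↪ Ω) = Nat.card G := by
    rw [Nat.card_eq_fintype_card, Fintype.card_embedding_eq, Fintype.card_fin, hΩ', hG]
    obtain ⟨r, hr⟩ : ∃ r, q = r + 1 := ⟨q - 1, by omega⟩
    rw [hr]
    simp only [Nat.descFactorial_succ, Nat.descFactorial_zero, Nat.sub_zero, mul_one, Nat.add_sub_cancel]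
    rw [show r + 1 + 1 - 2 = r by omega]
    ring
  let φ : G →* Equiv.Perm Ω := MulAction.toPermHom G Ω
  obtain ⟨x₀⟩ : Nonempty (Fin 3 ↪ Ω) :=
    Function.Embedding.nonempty_of_card_le (by rw [Fintype.card_fin, hΩ']; omega)
  have hφ : Function.Injective φ := by
    rw [injective_iff_map_eq_one]
    intro g hg
    exact hstab g x₀ fun i => congrArg (fun f : Equiv.Perm Ω => f (x₀ i)) hg
  have hmulti : MulAction.IsMultiplyPretransitive φ.range Ω 3 := by
    refine (MulAction.isMultiplyPretransitive_iff).2 fun {x y} => ?_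
    have hbij : Function.Bijective (fun g : G => x.trans ⟨(g • ·), MulAction.injective g⟩) := by
      refine (Nat.bijective_iff_injective_and_card _).2 ⟨fun g g' e => ?_, hcardemb.symm⟩
      refine inv_mul_eq_one.1 (hstab (g⁻¹ * g') x fun i => ?_)
      have h1 : g • x i = g' • x i := congrArg (fun f : Fin 3 ↪ Ω => f i) e
      rw [mul_smul, ← h1, inv_smul_smul]
    obtain ⟨g, hg⟩ := hbij.2 y
    exact ⟨⟨φ g, g, rfl⟩, DFunLike.ext _ _ fun i => congrArg (fun f : Fin 3 ↪ Ω => f i) hg⟩
  obtain ⟨a, -, ha2, F, hF, hFf, hFc, ⟨e⟩⟩ := Cfsg.Agent.S4702.result (α := Ω) (by omega)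
    (by rw [hΩ', hq]; exact ⟨2 ^ (m - 1), by rw [← pow_succ', show m - 1 + 1 = m by omega]⟩) φ.range hmulti (by
      rintro ⟨_, g, rfl⟩ hfx
      obtain ⟨x⟩ : Nonempty (Fin 3 ↪ MulAction.fixedBy Ω (⟨φ g, g, rfl⟩ : φ.range)) :=
        Function.Embedding.nonempty_of_card_le (by rwa [Fintype.card_fin, ← Nat.card_eq_fintype_card])
      have h1 := hstab g (x.trans (Function.Embedding.subtype _)) fun i => (x i).2
      exact Subtype.ext (show φ g = 1 by rw [h1, map_one]))
  exact ⟨F, hF, hFf, by omega, ⟨(MonoidHom.ofInjective hφ).trans e⟩⟩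

end CfsgLib.BrauerReynolds
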