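import Mathlib
import Cfsg.Prelude.Def_Perm
import Cfsg.Agent.S0732
import Cfsg.Agent.BrauerReynolds.Perfect

/-!
A perfect group of order less than `p ^ 3` with `p + 1` Sylow `p`-subgroups and no normal subgroup of order two
is `PSL(2, p)`.
-/

set_option autoImplicit false
set_option linter.style.haveILetI false

namespace CfsgLib.BrauerReynolds

universe u

/-- Two automorphisms of a finite field commute. -/
theorem ringEquiv_comm {q : ℕ} (φ ψ : GaloisField 2 q ≃+* GaloisField 2 q) (x : GaloisField 2 q) :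
    φ (ψ x) = ψ (φ x) := by
  haveI : Fact (Nat.Prime 2) := ⟨Nat.prime_two⟩
  let a : GaloisField 2 q ≃ₐ[ZMod 2] GaloisField 2 q :=
    AlgEquiv.ofRingEquiv (f := φ) fun r => RingHom.congr_fun
      (RingHom.ext_zmod (φ.toRingHom.comp (algebraMap (ZMod 2) _)) (algebraMap (ZMod 2) _)) r
  let b : GaloisField 2 q ≃ₐ[ZMod 2] GaloisField 2 q :=
    AlgEquiv.ofRingEquiv (f := ψ) fun r => RingHom.congr_fun
      (RingHom.ext_zmod (ψ.toRingHom.comp (algebraMap (ZMod 2) _)) (algebraMap (ZMod 2) _)) r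
  have h := IsCyclic.commutative.is_comm.comm a b
  exact congrArg (fun e : GaloisField 2 q ≃ₐ[ZMod 2] GaloisField 2 q => e x) h

/-- No perfect non-trivial group consists of semi-affine maps. -/
theorem eq_one_of_semiaffine {F : Type*} [Field F] (hcomm : ∀ (φ ψ : F ≃+* F) (x : F), φ (ψ x) = ψ (φ x))
    {I : Type*} [Group I] (hperf : commutator I = ⊤)
    (f : I →* Equiv.Perm F) (hf : ∀ g, f g ∈ Cfsg.semiaffineGroup F) (g : I) :
    f g = 1 := by
  have hstep : ∀ (P Q : Subgroup (Equiv.Perm F)), (∀ g, f g ∈ P) → (∀ a ∈ P, ∀ b ∈ P, a * b * a⁻¹ * b⁻¹ ∈ Q) →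
      ∀ g, f g ∈ Q := by
    intro P Q hP hPQ g
    have : commutator I ≤ Q.comap f := by
      rw [commutator_def, Subgroup.commutator_le]
      intro a _ b _
      rw [Subgroup.mem_comap, commutatorElement_def, map_mul, map_mul, map_mul, map_inv, map_inv]
      exact hPQ _ (hP a) _ (hP b)
    exact this (hperf ▸ Subgroup.mem_top g)
  let A : Subgroup (Equiv.Perm F) :=
    { carrier := {σ | ∃ a : F, a ≠ 0 ∧ ∃ b : F, ∀ x, σ x = a * x + b}
      one_mem' := ⟨1, one_ne_zero, 0, fun x => by simp⟩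
      mul_mem' := fun {σ τ} hσ hτ => by
        obtain ⟨a, ha, b, hab⟩ := hσ
        obtain ⟨c, hc, d, hcd⟩ := hτ
        exact ⟨a * c, mul_ne_zero ha hc, a * d + b, fun x => by rw [Equiv.Perm.mul_apply, hcd, hab]; ring⟩
      inv_mem' := fun {σ} hσ => by
        obtain ⟨a, ha, b, hab⟩ := hσ
        refine ⟨a⁻¹, inv_ne_zero ha, -(a⁻¹ * b), fun x => σ.injective ?_⟩
        rw [Equiv.Perm.inv_def, Equiv.apply_symm_apply, hab, mul_add, mul_neg, mul_inv_cancel_left₀ ha,
          mul_inv_cancel_left₀ ha, neg_add_cancel_right] }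
  let T : Subgroup (Equiv.Perm F) :=
    { carrier := {σ | ∃ b : F, ∀ x, σ x = x + b}
      one_mem' := ⟨0, fun x => by simp⟩
      mul_mem' := fun {σ τ} hσ hτ => by
        obtain ⟨b, hb⟩ := hσ
        obtain ⟨d, hd⟩ := hτ
        exact ⟨d + b, fun x => by rw [Equiv.Perm.mul_apply, hd, hb, add_assoc]⟩
      inv_mem' := fun {σ} hσ => by
        obtain ⟨b, hb⟩ := hσ
        refine ⟨-b, fun x => σ.injective ?_⟩
        rw [Equiv.Perm.inv_def, Equiv.apply_symm_apply, hb]
        ring }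
  have h1 := hstep (Cfsg.semiaffineGroup F) A hf fun σ hσ τ hτ => by
    obtain ⟨a, b, φ, hσ⟩ := hσ
    obtain ⟨c, d, ψ, hτ⟩ := hτ
    refine ⟨(a : F) * φ (c : F) / ((c : F) * ψ (a : F)),
      div_ne_zero (mul_ne_zero a.ne_zero ((map_ne_zero_iff φ φ.injective).2 c.ne_zero))
        (mul_ne_zero c.ne_zero ((map_ne_zero_iff ψ ψ.injective).2 a.ne_zero)),
      (a : F) * φ d + b - (a : F) * φ (c : F) / ((c : F) * ψ (a : F)) * ((c : F) * ψ b + d), fun x => ?_⟩
    obtain ⟨y, rfl⟩ : ∃ y, x = τ (σ y) := ⟨σ⁻¹ (τ⁻¹ x), by simp⟩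
    rw [Equiv.Perm.mul_apply, Equiv.Perm.mul_apply, Equiv.Perm.mul_apply, Equiv.Perm.inv_def τ, Equiv.symm_apply_apply,
      Equiv.Perm.inv_def σ, Equiv.symm_apply_apply, hτ y, hσ, hσ y, hτ]
    simp only [map_add, map_mul, hcomm ψ φ y]
    have := (map_ne_zero_iff ψ ψ.injective).2 a.ne_zero
    have := c.ne_zero
    field_simp
    ring
  have h2 := hstep A T h1 fun σ hσ τ hτ => by
    obtain ⟨a, ha, b, hσ⟩ := hσ
    obtain ⟨c, hc, d, hτ⟩ := hτ
    refine ⟨a * d + b - (c * b + d), fun x => ?_⟩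
    obtain ⟨y, rfl⟩ : ∃ y, x = τ (σ y) := ⟨σ⁻¹ (τ⁻¹ x), by simp⟩
    rw [Equiv.Perm.mul_apply, Equiv.Perm.mul_apply, Equiv.Perm.mul_apply, Equiv.Perm.inv_def τ, Equiv.symm_apply_apply,
      Equiv.Perm.inv_def σ, Equiv.symm_apply_apply, hτ y, hσ, hσ y, hτ]
    ring
  have h3 := hstep T ⊥ h2 fun σ hσ τ hτ => by
    obtain ⟨b, hb⟩ := hσ
    obtain ⟨d, hd⟩ := hτ
    rw [Subgroup.mem_bot, show σ * τ * σ⁻¹ * τ⁻¹ = σ * τ * (τ * σ)⁻¹ by group, mul_inv_eq_one]
    exact Equiv.ext fun x => by simp only [Equiv.Perm.mul_apply, hb, hd]; ring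
  exact Subgroup.mem_bot.1 (h3 g)

/-- `PGL(2, p)` is not perfect for odd `p`. -/
theorem pgl_not_perfect (p : ℕ) [Fact p.Prime] (hp2 : p ≠ 2) :
    commutator (Matrix.ProjGenLinGroup (Fin 2) (ZMod p)) ≠ ⊤ := by
  intro hperf
  let Sq : Subgroup (ZMod p)ˣ := (powMonoidHom 2).range
  let f : Matrix.ProjGenLinGroup (Fin 2) (ZMod p) →* (ZMod p)ˣ ⧸ Sq :=
    Matrix.ProjGenLinGroup.lift ((QuotientGroup.mk' Sq).comp Matrix.GeneralLinearGroup.det) (MonoidHom.ext fun u => by
      simp only [MonoidHom.comp_apply, MonoidHom.one_apply, QuotientGroup.mk'_apply, QuotientGroup.eq_one_iff]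
      refine ⟨u, Units.ext ?_⟩
      simp [Matrix.GeneralLinearGroup.val_det_apply, Matrix.scalar_apply, Matrix.det_diagonal, sq])
  obtain ⟨a, ha⟩ := FiniteField.exists_nonsquare (F := ZMod p) (by rwa [ZMod.ringChar_zmod_n])
  have ha0 : a ≠ 0 := fun e => ha (e ▸ IsSquare.zero)
  let g : GL (Fin 2) (ZMod p) := Matrix.GeneralLinearGroup.mkOfDetNeZero !![a, 0; 0, 1] (by simp [Matrix.det_fin_two_of, ha0])
  have h1 : f (Matrix.ProjGenLinGroup.mk g) = 1 :=
    eq_one_of_perfect (A := (ZMod p)ˣ ⧸ Sq) hperf f _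
  change (QuotientGroup.mk' Sq) (Matrix.GeneralLinearGroup.det g) = 1 at h1
  rw [QuotientGroup.mk'_apply, QuotientGroup.eq_one_iff] at h1
  obtain ⟨u, hu⟩ := h1
  have hu' := congrArg Units.val hu
  simp [g, Matrix.GeneralLinearGroup.val_det_apply, Matrix.det_fin_two_of] at hu'
  exact ha ⟨u, by rw [← hu', sq]⟩

theorem small_case {G : Type u} [Group G] [Finite G] (hperf : commutator G = ⊤) (p : ℕ) [Fact p.Prime]
    (hbig : Nat.card G < p ^ 3) (P : Sylow p G) (hP : Nat.card P = p) (hn : Nat.card (Sylow p G) = p + 1)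
    (h2 : ∀ N : Subgroup G, N.Normal → Nat.card N ≠ 2) :
    ∃ (F : Type) (_ : Field F) (_ : Fintype F), Fintype.card F = p ∧ 3 < p ∧
      Nonempty (G ≃* Matrix.ProjectiveSpecialLinearGroup (Fin 2) F) := by
  classical
  haveI := Fintype.ofFinite (Sylow p G)
  have hp : p.Prime := Fact.out
  have hdvd : p ∣ Nat.card G := hP ▸ Subgroup.card_subgroup_dvd_card _
  set N := Subgroup.normalizer ((P : Subgroup G) : Set G) with hN
  obtain ⟨w, hw⟩ : p ∣ Nat.card N := hP ▸ Subgroup.card_dvd_of_le Subgroup.le_normalizer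
  have hG : Nat.card G = (p + 1) * p * w := by
    rw [← N.card_mul_index, hw]
    rw [show N.index = p + 1 from P.card_eq_index_normalizer.symm.trans hn]; ring
  have hwp : w < p := by
    by_contra hle
    push Not at hle
    have h1 : (p + 1) * p * p ≤ (p + 1) * p * w := Nat.mul_le_mul_left _ hle
    have h2 : p ^ 3 ≤ (p + 1) * p * p := by rw [pow_succ, sq]; exact Nat.mul_le_mul_right p (by nlinarith)
    omega
  have hw1 : w ≠ 1 := fun e => by
    refine not_normalizer_le_centralizer hperf P hdvd ?_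
    have h1 : (P : Subgroup G) = N := Subgroup.eq_of_le_of_card_ge Subgroup.le_normalizer (by rw [hw, e, mul_one, hP])
    rw [← hN, ← h1]
    haveI := isCyclic_of_prime_card hP
    exact fun a ha => Subgroup.mem_centralizer_iff.2 fun b hb =>
      congrArg Subtype.val (IsCyclic.commutative.is_comm.comm (⟨b, hb⟩ : (P : Subgroup G)) ⟨a, ha⟩)
  have hp2 : p ≠ 2 := fun e => by
    have : 0 < w := Nat.pos_of_ne_zero fun e0 => by
      rw [e0, mul_zero] at hG; exact Nat.card_pos.ne' hG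
    omega
  let φ : G →* Equiv.Perm (Sylow p G) := MulAction.toPermHom G (Sylow p G)
  set K := φ.ker with hK
  have hKN : ∀ Q : Sylow p G, K ≤ Subgroup.normalizer ((Q : Subgroup G) : Set G) := fun Q g hg => by
    exact Sylow.smul_eq_iff_mem_normalizer.1 (congrArg (fun f : Equiv.Perm (Sylow p G) => f Q) hg)
  have hpK : ¬ p ∣ Nat.card K := by
    intro hd
    obtain ⟨⟨x, hxK⟩, hx⟩ := exists_prime_orderOf_dvd_card' p hd
    rw [Subgroup.orderOf_mk] at hx
    have hall : ∀ Q : Sylow p G, Subgroup.zpowers x = (Q : Subgroup G) := fun Q => by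
      have hle : Subgroup.zpowers x ≤ Q := by
        have hpg : IsPGroup p ((Q : Subgroup G) ⊔ Subgroup.zpowers x : Subgroup G) :=
          Q.isPGroup'.to_sup_of_normal_left' (IsPGroup.of_card (n := 1) (by rw [Nat.card_zpowers, hx, pow_one]))
            (Subgroup.zpowers_le.2 (hKN Q hxK))
        exact le_sup_right.trans (Q.is_maximal' hpg le_sup_left).le
      refine Subgroup.eq_of_le_of_card_ge hle ?_
      rw [Nat.card_zpowers, hx, Q.card_eq_multiplicity, ← P.card_eq_multiplicity, hP]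
    have : Subsingleton (Sylow p G) := ⟨fun a b => Sylow.ext ((hall a).symm.trans (hall b))⟩
    rw [Nat.card_of_subsingleton P] at hn
    omega
  obtain ⟨d, hd⟩ : Nat.card K ∣ w :=
    ((hp.coprime_iff_not_dvd.2 hpK).symm).dvd_of_dvd_mul_left (hw ▸ Subgroup.card_dvd_of_le (hKN P))
  have hI : Nat.card φ.range = (p + 1) * p * d := by
    have h1 := K.card_mul_index
    rw [hK, Subgroup.index_ker, ← hK, hG, hd] at h1
    refine Nat.eq_of_mul_eq_mul_left (Nat.card_pos (α := K)) ?_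
    rw [h1]; ring
  have hd0 : 0 < d := Nat.pos_of_ne_zero fun e => by
    rw [e, mul_zero] at hI; exact Nat.card_pos.ne' hI
  have hdle : d ≤ w := by rw [hd]; exact Nat.le_mul_of_pos_left d Nat.card_pos
  haveI : MulAction.IsPretransitive φ.range (Sylow p G) := ⟨fun a b => by
    obtain ⟨g, hg⟩ := MulAction.exists_smul_eq G a b
    exact ⟨⟨φ g, g, rfl⟩, hg⟩⟩
  have hperfI : commutator φ.range = ⊤ := perfect_map φ.rangeRestrict_surjective hperf
  rcases Cfsg.Agent.S0732.result hp (by rw [← Nat.card_eq_fintype_card, hn]) φ.range hI (by omega) with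
    ⟨-, ⟨e⟩⟩ | ⟨hd2, ⟨e⟩⟩ | ⟨q, -, -, -, e, he⟩
  · exact absurd (perfect_map (f := e.toMonoidHom) e.surjective hperfI) (pgl_not_perfect p hp2)
  · have hK1 : Nat.card K = 1 := by
      have h1 : Nat.card K ≤ 2 := by
        by_contra hle
        have : 3 * d ≤ w := by rw [hd]; exact Nat.mul_le_mul_right d (by omega)
        omega
      have h3 := h2 K inferInstance
      have := Nat.card_pos (α := K)
      omega
    have hinj : Function.Injective φ := (MonoidHom.ker_eq_bot_iff φ).1 (Subgroup.eq_bot_of_card_eq _ hK1)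
    refine ⟨ZMod p, inferInstance, inferInstance, ZMod.card p, ?_, ⟨(MonoidHom.ofInjective hinj).trans e⟩⟩
    rw [hK1, one_mul] at hd
    have := hp.two_le
    omega
  · exfalso
    let f : φ.range →* Equiv.Perm (GaloisField 2 q) := e.permCongrHom.toMonoidHom.comp φ.range.subtype
    have hf := eq_one_of_semiaffine (fun a b x => ringEquiv_comm a b x) hperfI f fun g => by
      have h1 := he g
      exact h1
    have h1 : Nat.card φ.range = 1 := by
      refine Nat.card_eq_one_iff_unique.2 ⟨⟨fun a b => ?_⟩, ⟨1⟩⟩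
      have h2 := (hf a).trans (hf b).symm
      exact Subtype.ext (e.permCongrHom.injective h2)
    rw [hI] at h1
    have := Nat.eq_one_of_mul_eq_one_right h1
    have := hp.two_le
    nlinarith

end CfsgLib.BrauerReynolds
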