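import Mathlib
import Cfsg.Agent.BrauerReynolds.Involution
import Cfsg.Agent.BrauerReynolds.Recognise
import Cfsg.Agent.BrauerReynolds.SmallK

/-!
Perfect groups with a non-normal Sylow `p`-subgroup and order less than `p ^ 3`.
-/

set_option autoImplicit false
set_option linter.style.haveILetI false

namespace CfsgLib.BrauerReynolds

open CfsgLib.DefectOne

universe u

theorem main {G : Type u} [Group G] [Finite G] (hperf : commutator G = ⊤) (p : ℕ) [Fact p.Prime]
    (hdvd : p ∣ Nat.card G) (hbig : Nat.card G < p ^ 3) (P : Sylow p G) (hP : ¬ (P : Subgroup G).Normal)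
    (h2 : ∀ N : Subgroup G, N.Normal → Nat.card N ≠ 2) :
    (∃ (F : Type) (_ : Field F) (_ : Fintype F), Fintype.card F = p ∧ 3 < p ∧
        Nonempty (G ≃* Matrix.ProjectiveSpecialLinearGroup (Fin 2) F)) ∨
      (∃ (m : ℕ) (F : Type) (_ : Field F) (_ : Fintype F), Fintype.card F = 2 ^ m ∧ p = 2 ^ m + 1 ∧ 3 < p ∧
        Nonempty (G ≃* Matrix.SpecialLinearGroup (Fin 2) F)) := by
  classical
  haveI : Fintype G := Fintype.ofFinite G
  have hp : p.Prime := Fact.out
  set n := Nat.card (Sylow p G) with hn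
  have hmod : n ≡ 1 [MOD p] := card_sylow_modEq_one p G
  have hn1 : n ≠ 1 := fun e => hP (by
    haveI := (Nat.card_eq_one_iff_unique.1 e).1
    exact Sylow.normal_of_subsingleton P)
  obtain ⟨k, hk⟩ : ∃ k, n = k * p + 1 := by
    refine ⟨n / p, ?_⟩
    have h1 : n % p = 1 := by rw [Nat.ModEq, Nat.one_mod_eq_one.2 hp.ne_one] at hmod; exact hmod
    have := Nat.div_add_mod n p
    rw [mul_comm]; omega
  have hk1 : 1 ≤ k := by
    rcases Nat.eq_zero_or_pos k with h | h
    · rw [h] at hk; omega
    · exact h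
  set N := Subgroup.normalizer ((P : Subgroup G) : Set G)
  have hGN : Nat.card G = Nat.card N * n := by
    rw [← N.card_mul_index, show n = N.index from hn.trans P.card_eq_index_normalizer]
  have hPcard : Nat.card P = p := by
    have h1 := P.card_eq_multiplicity
    have hpos := hp.factorization_pos_of_dvd Nat.card_pos.ne' hdvd
    by_cases h : (Nat.card G).factorization p = 1
    · rw [h1, h, pow_one]
    · exfalso
      have h2' : p ^ 2 ≤ Nat.card N := by
        refine le_trans ?_ (Subgroup.card_le_of_le Subgroup.le_normalizer)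
        rw [h1]
        exact Nat.pow_le_pow_right hp.pos (by omega)
      have h3 : p + 1 ≤ n := by rw [hk]; exact Nat.succ_le_succ (Nat.le_mul_of_pos_left p hk1)
      have h4 : p ^ 2 * (p + 1) ≤ Nat.card G := hGN ▸ Nat.mul_le_mul h2' h3
      have h5 : p ^ 3 ≤ p ^ 2 * (p + 1) := by rw [pow_succ]; exact Nat.mul_le_mul_left _ (Nat.le_succ p)
      omega
  by_cases hk2 : 2 ≤ k
  · obtain ⟨D, hD⟩ := exists_data P hPcard
    have hNH : Nat.card N = p * Nat.card D.H := by rw [← D.card_normalizer, hD]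
    have hyp : Hyp D k := ⟨hperf, hbig, by rw [hGN, hNH, hk, mul_assoc], hk2⟩
    obtain ⟨z, m, hm, hpm, hz1, -, hC, hsq, hconj, hcard⟩ := hyp.involution
    obtain ⟨F, hF, hFf, hFc, e⟩ := iso_sl hm hz1 hC hsq hconj hcard
    refine Or.inr ⟨m, F, hF, hFf, hFc, hpm, ?_, e⟩
    have : 2 ^ 2 ≤ 2 ^ m := Nat.pow_le_pow_right (by norm_num) hm
    omega
  · exact Or.inl (small_case hperf p hbig P hPcard (by rw [← hn, hk, show k = 1 by omega, one_mul]) h2)

end CfsgLib.BrauerReynolds
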