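import Mathlib
import Cfsg.Prelude.Def_LocalStructure
import Cfsg.Agent.BrauerReynolds.Main
import Cfsg.Agent.SL2.PSL
import Cfsg.Agent.SLn.Simple

/-!
The least order of a group with non-normal Sylow `p`-subgroups, `p` odd.
-/

set_option autoImplicit false
set_option linter.style.haveILetI false

namespace CfsgLib.BrauerReynolds

open scoped Pointwise
open Cfsg (IsPClosed)

variable {p : ℕ} [Fact p.Prime]

/-- A Sylow subgroup normal in a normal subgroup containing it is normal. -/
theorem normal_of_normal_sub {H : Type} [Group H] [Finite H] (P : Sylow p H) (K : Subgroup H) [K.Normal]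
    (hPK : (P : Subgroup H) ≤ K) (hn : ((P.subtype hPK : Sylow p K) : Subgroup K).Normal) :
    (P : Subgroup H).Normal := by
  haveI : ((P.subtype hPK : Sylow p K) : Subgroup K).Characteristic := Sylow.characteristic_of_normal _ hn
  haveI : ((P : Subgroup H).subgroupOf K).Characteristic := by
    rw [← Sylow.coe_subtype P hPK]; infer_instance
  have h := ConjAct.normal_of_characteristic_of_normal (H := K) (K := (P : Subgroup H).subgroupOf K)
  rwa [Subgroup.map_subgroupOf_eq_of_le hPK] at h

/-- A `q`-group normalised by a Sylow `p`-subgroup and generating the group with it forces the bound. -/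
theorem bound_of_two {H : Type} [Group H] [Finite H] (P : Sylow p H) (hP : ¬ (P : Subgroup H).Normal)
    {m : ℕ} (hleast : ∀ k : ℕ, IsPrimePow k → k % p = 1 → m ≤ k)
    {q : ℕ} [Fact q.Prime] (hqp : q ≠ p) (Q : Subgroup H) (hQ : IsPGroup q Q)
    (hPQ : (P : Subgroup H) ≤ Subgroup.normalizer (Q : Set H)) (htop : (P : Subgroup H) ⊔ Q = ⊤) :
    p * m ≤ Nat.card H := by
  have hp : p.Prime := Fact.out
  have hQn : Q.Normal := by
    rw [← Subgroup.normalizer_eq_top_iff, eq_top_iff, ← htop]
    exact sup_le hPQ Subgroup.le_normalizer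
  obtain ⟨a, ha⟩ := P.isPGroup'.exists_card_eq
  obtain ⟨b, hb⟩ := hQ.exists_card_eq
  have hcop : Nat.Coprime (Nat.card P) (Nat.card Q) := by
    rw [ha, hb]
    exact Nat.Coprime.pow _ _ ((Nat.coprime_primes hp Fact.out).2 (Ne.symm hqp))
  have hdisj : Disjoint (P : Subgroup H) Q := disjoint_iff.2 (Subgroup.inf_eq_bot_of_coprime hcop)
  have hmul : ((P : Subgroup H) : Set H) * (Q : Set H) = Set.univ := by
    rw [← Subgroup.mul_normal, htop, Subgroup.coe_top]
  have hcard := (Subgroup.isComplement'_of_disjoint_and_mul_eq_univ hdisj hmul).card_mul_card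
  have hidx : (P : Subgroup H).index = q ^ b := by
    have h := (P : Subgroup H).card_mul_index
    rw [← hcard, hb] at h
    exact Nat.eq_of_mul_eq_mul_left Nat.card_pos h
  have hn : Nat.card (Sylow p H) ∣ q ^ b := hidx ▸ P.card_dvd_index
  obtain ⟨c, -, hc⟩ := (Nat.dvd_prime_pow (Fact.out : q.Prime)).1 hn
  have hc0 : c ≠ 0 := by
    rintro rfl
    rw [pow_zero] at hc
    haveI := (Nat.card_eq_one_iff_unique.1 hc).1
    exact hP (Sylow.normal_of_subsingleton P)
  have hm : m ≤ Nat.card (Sylow p H) := by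
    refine hleast _ (hc ▸ ⟨q, c, Nat.prime_iff.1 Fact.out, Nat.pos_of_ne_zero hc0, rfl⟩) ?_
    have := card_sylow_modEq_one p H
    rwa [Nat.ModEq, Nat.one_mod_eq_one.2 hp.ne_one] at this
  have hle : Nat.card (Sylow p H) ≤ q ^ b := Nat.le_of_dvd (pow_pos (Fact.out : q.Prime).pos _) hn
  have ha0 : a ≠ 0 := by
    rintro rfl
    rw [pow_zero, Subgroup.card_eq_one] at ha
    exact hP (by rw [ha]; infer_instance)
  rw [← hcard, hb, ha]
  exact Nat.mul_le_mul (Nat.le_self_pow ha0 p) (hm.trans hle)

/-- The inductive step for a group with a proper nontrivial normal subgroup. -/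
theorem bound_of_normal {H : Type} [Group H] [Finite H] (P : Sylow p H) (hP : ¬ (P : Subgroup H).Normal)
    {m : ℕ} (hleast : ∀ k : ℕ, IsPrimePow k → k % p = 1 → m ≤ k)
    (hsub : ∀ L : Subgroup H, L ≠ ⊤ → IsPClosed p L)
    (hquo : ∀ N : Subgroup H, [N.Normal] → N ≠ ⊥ → IsPClosed p (H ⧸ N))
    (N : Subgroup H) [N.Normal] (hN0 : N ≠ ⊥) (hN1 : N ≠ ⊤) : p * m ≤ Nat.card H := by
  classical
  have hp : p.Prime := Fact.out
  have himg : ∀ K : Subgroup H, [K.Normal] → K ≠ ⊥ → ((P : Subgroup H) ⊔ K).Normal := by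
    intro K _ hK
    haveI := hquo K hK (P.mapSurjective (QuotientGroup.mk'_surjective K))
    have h : (((P.mapSurjective (QuotientGroup.mk'_surjective K) : Sylow p (H ⧸ K)) : Subgroup (H ⧸ K)).comap
        (QuotientGroup.mk' K)).Normal := inferInstance
    rwa [Sylow.coe_mapSurjective, Subgroup.comap_map_eq, QuotientGroup.ker_mk'] at h
  have hpN : ¬ p ∣ Nat.card N := by
    intro hd
    obtain ⟨R⟩ : Nonempty (Sylow p N) := inferInstance
    haveI : (R : Subgroup N).Characteristic := Sylow.characteristic_of_normal R (hsub N hN1 R)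
    haveI : ((R : Subgroup N).map N.subtype).Normal := ConjAct.normal_of_characteristic_of_normal
    have hR0 : (R : Subgroup N).map N.subtype ≠ ⊥ := by
      rw [Ne, Subgroup.map_eq_bot_iff_of_injective _ N.subtype_injective]
      intro h
      have h1 := R.dvd_card_of_dvd_card hd
      rw [h, Subgroup.card_bot, Nat.dvd_one] at h1
      exact hp.ne_one h1
    have hle : (R : Subgroup N).map N.subtype ≤ P := by
      have h1 := IsPGroup.to_sup_of_normal_left (R.isPGroup'.map N.subtype) P.isPGroup'
      exact le_sup_left.trans (P.is_maximal' h1 le_sup_right).le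
    refine hP ?_
    have := himg _ hR0
    rwa [sup_eq_left.2 hle] at this
  haveI hK : ((P : Subgroup H) ⊔ N).Normal := himg N hN0
  have hPN : (P : Subgroup H) ⊔ N = ⊤ := by
    by_contra h
    exact hP (normal_of_normal_sub P _ le_sup_left (hsub _ h _))
  by_contra hlt
  refine hP ?_
  suffices hNle : N ≤ Subgroup.normalizer ((P : Subgroup H) : Set H) by
    rw [← Subgroup.normalizer_eq_top_iff, eq_top_iff, ← hPN]
    exact sup_le Subgroup.le_normalizer hNle
  have hM : ((Subgroup.normalizer ((P : Subgroup H) : Set H)).subgroupOf N) = ⊤ := by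
    refine Subgroup.eq_top_of_card_eq _ (Nat.dvd_antisymm (Subgroup.card_subgroup_dvd_card _) ?_)
    rw [Nat.dvd_iff_prime_pow_dvd_dvd]
    intro q k hq hk
    rcases Nat.eq_zero_or_pos k with rfl | hk0
    · simp
    haveI : Fact q.Prime := ⟨hq⟩
    have hqp : q ≠ p := by
      rintro rfl
      exact hpN ((dvd_pow_self q hk0.ne').trans hk)
    letI : MulAction (P : Subgroup H) (Sylow q N) :=
      MulAction.compHom _ ((MulAut.conjNormal (H := N)).comp (P : Subgroup H).subtype)
    have hnd : ¬ p ∣ Nat.card (Sylow q N) := by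
      intro h
      obtain ⟨Q₀⟩ : Nonempty (Sylow q N) := inferInstance
      rw [Q₀.card_eq_index_normalizer] at h
      exact hpN (h.trans (Subgroup.index_dvd_card _))
    obtain ⟨Q, hQ⟩ := P.isPGroup'.nonempty_fixed_point_of_prime_not_dvd_card (Sylow q N) hnd
    set Q' := (Q : Subgroup N).map N.subtype with hQ'
    have hnorm : (P : Subgroup H) ≤ Subgroup.normalizer (Q' : Set H) := by
      have key : ∀ g ∈ (P : Subgroup H), ∀ x ∈ Q', g * x * g⁻¹ ∈ Q' := by
        intro g hg x hx
        obtain ⟨y, hy, rfl⟩ := Subgroup.mem_map.1 hx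
        refine Subgroup.mem_map.2 ⟨MulAut.conjNormal g y, ?_, ?_⟩
        · have h1 := Subgroup.smul_mem_pointwise_smul y (MulAut.conjNormal (H := N) g) (Q : Subgroup N) hy
          have h2 : (MulAut.conjNormal (H := N) g) • Q = Q := hQ ⟨g, hg⟩
          rw [← Sylow.pointwise_smul_def, h2] at h1
          exact h1
        · simp [MulAut.conjNormal_apply]
      intro g hg
      rw [Subgroup.mem_normalizer_iff]
      intro x
      refine ⟨key g hg x, fun h => ?_⟩
      have := key g⁻¹ (inv_mem hg) _ h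
      simpa [mul_assoc] using this
    have hle : Q' ≤ Subgroup.normalizer ((P : Subgroup H) : Set H) := by
      by_cases hL : (P : Subgroup H) ⊔ Q' = ⊤
      · exact absurd (bound_of_two P hP hleast hqp Q' (Q.isPGroup'.map _) hnorm hL) hlt
      · have hn := hsub _ hL (P.subtype le_sup_left)
        rw [Sylow.coe_subtype, Subgroup.normal_subgroupOf_iff_le_normalizer le_sup_left] at hn
        exact le_sup_right.trans hn
    have hQle : (Q : Subgroup N) ≤ (Subgroup.normalizer ((P : Subgroup H) : Set H)).subgroupOf N :=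
      fun x hx => Subgroup.mem_subgroupOf.2 (hle (Subgroup.mem_map_of_mem _ hx))
    exact (Q.pow_dvd_card_of_pow_dvd_card hk).trans (Subgroup.card_dvd_of_le hQle)
  exact Subgroup.subgroupOf_eq_top.1 hM

theorem psl_card_ge (F : Type) [Field F] [Fintype F] :
    Fintype.card F * (Fintype.card F ^ 2 - 1) / 2 ≤
      Nat.card (Matrix.ProjectiveSpecialLinearGroup (Fin 2) F) := by
  have h := SL2.card_PSL_mul F
  have hz : Nat.card (Subgroup.center (Matrix.SpecialLinearGroup (Fin 2) F)) ≤ 2 := by
    rw [SL2.card_center_eq_gcd]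
    exact Nat.le_of_dvd (by norm_num) (Nat.gcd_dvd_left _ _)
  rw [← h]
  exact Nat.div_le_of_le_mul (by rw [mul_comm]; exact Nat.mul_le_mul_right _ hz)

theorem lower_bound (hp2 : p ≠ 2) {m : ℕ} (hleast : ∀ k : ℕ, IsPrimePow k → k % p = 1 → m ≤ k) :
    ∀ (n : ℕ) (H : Type) [Group H] [Finite H], Nat.card H = n →
      n < min (p * m) (p * (p ^ 2 - 1) / 2) → IsPClosed p H := by
  intro n
  induction n using Nat.strong_induction_on with
  | _ n ih =>
  intro H _ _ hn hlt P
  have hp : p.Prime := Fact.out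
  by_contra hP
  have hlt1 : Nat.card H < p * m := by rw [hn]; exact hlt.trans_le (min_le_left _ _)
  have hlt2 : Nat.card H < p * (p ^ 2 - 1) / 2 := by rw [hn]; exact hlt.trans_le (min_le_right _ _)
  have hsub : ∀ L : Subgroup H, L ≠ ⊤ → IsPClosed p L := by
    intro L hL
    have h1 : Nat.card L < n := by
      rw [← hn]
      exact lt_of_le_of_ne (Subgroup.card_le_card_group L) fun e => hL (Subgroup.eq_top_of_card_eq L e)
    exact ih _ h1 L rfl (h1.trans hlt)
  have hquo : ∀ N : Subgroup H, [N.Normal] → N ≠ ⊥ → IsPClosed p (H ⧸ N) := by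
    intro N _ hN
    have h1 : Nat.card (H ⧸ N) < n := by
      rw [← hn, Subgroup.card_eq_card_quotient_mul_card_subgroup N]
      exact lt_mul_of_one_lt_right Nat.card_pos (N.one_lt_card_iff_ne_bot.2 hN)
    exact ih _ h1 _ rfl (h1.trans hlt)
  have hsimple : ∀ N : Subgroup H, N.Normal → N = ⊥ ∨ N = ⊤ := by
    intro N hN
    by_contra hc
    push Not at hc
    have := bound_of_normal P hP hleast hsub hquo N hc.1 hc.2
    omega
  have hdvd : p ∣ Nat.card H := by
    by_contra hd
    obtain ⟨a, ha⟩ := P.isPGroup'.exists_card_eq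
    refine hP ?_
    have h1 := Subgroup.card_subgroup_dvd_card (P : Subgroup H)
    rw [ha] at h1
    have ha0 : a = 0 := by
      by_contra h
      exact hd ((dvd_pow_self p h).trans h1)
    rw [ha0, pow_zero, Subgroup.card_eq_one] at ha
    rw [ha]; infer_instance
  have hperf : commutator H = ⊤ := by
    refine (hsimple _ inferInstance).resolve_left fun h => hP ⟨fun x hx g => ?_⟩
    have hc : g * x = x * g := by
      refine commutatorElement_eq_one_iff_mul_comm.1 (Subgroup.mem_bot.1 ?_)
      rw [← h, commutator_def]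
      exact Subgroup.commutator_mem_commutator (Subgroup.mem_top g) (Subgroup.mem_top x)
    rw [hc, mul_inv_cancel_right]; exact hx
  have h2 : ∀ N : Subgroup H, N.Normal → Nat.card N ≠ 2 := by
    intro N hN hc
    rcases hsimple N hN with h | h
    · rw [h, Subgroup.card_bot] at hc; omega
    · rw [h, Subgroup.card_top] at hc
      rw [hc] at hdvd
      exact hp2 ((Nat.prime_dvd_prime_iff_eq hp Nat.prime_two).1 hdvd)
  have hbig : Nat.card H < p ^ 3 := by
    have h1 : p * (p ^ 2 - 1) / 2 ≤ p * p ^ 2 := (Nat.div_le_self _ _).trans (Nat.mul_le_mul_left _ (Nat.sub_le _ _))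
    have h3 : p * p ^ 2 = p ^ 3 := by ring
    omega
  rcases main hperf p hdvd hbig P hP h2 with ⟨F, _, _, hc, -, ⟨e⟩⟩ | ⟨a, F, _, _, hc, hpa, h3, ⟨e⟩⟩
  · have := psl_card_ge F
    rw [hc, ← Nat.card_congr e.toEquiv] at this
    omega
  · have h4 := SL2.card_SL2 F
    rw [← Nat.card_congr e.toEquiv, hc] at h4
    obtain ⟨q, hq⟩ : ∃ q, q = 2 ^ a := ⟨_, rfl⟩
    rw [← hq] at h4 hpa
    subst hpa
    have e1 : (q + 1) ^ 2 - 1 = q * (q + 2) := by
      rw [show (q + 1) ^ 2 = q * (q + 2) + 1 by ring]; rfl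
    have e2 : q ^ 2 - 1 = (q + 1) * (q - 1) := by
      rw [← Nat.sq_sub_sq, one_pow]
    rw [e1] at hlt2
    rw [e2] at h4
    have hle : (q + 1) * (q * (q + 2)) ≤ 2 * Nat.card H := by
      rw [h4, show 2 * (q * ((q + 1) * (q - 1))) = (q + 1) * (q * (2 * (q - 1))) by ring]
      refine Nat.mul_le_mul_left _ (Nat.mul_le_mul_left _ ?_)
      rcases Nat.lt_or_ge q 4 with h | h
      · exfalso
        have : q = 3 := by omega
        rcases a with _ | a
        · omega
        · rw [pow_succ] at hq; omega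
      · omega
    have := Nat.div_le_of_le_mul hle
    omega

/-- The affine group over a field of order `m` with a point stabiliser of order `p`. -/
theorem affine_example {m : ℕ} (hm : IsPrimePow m) (hm1 : m % p = 1) :
    ∃ (H : Type) (_ : Group H) (_ : Finite H), Nat.card H = p * m ∧ ¬ IsPClosed p H := by
  classical
  have hp : p.Prime := Fact.out
  obtain ⟨r, e, hr, he, rfl⟩ := hm
  haveI : Fact r.Prime := ⟨Nat.prime_iff.2 hr⟩
  let F := GaloisField r e
  haveI : Fintype F := Fintype.ofFinite F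
  have hF : Nat.card F = r ^ e := GaloisField.card r e he.ne'
  have hdvd : p ∣ Nat.card Fˣ := by
    rw [Nat.card_units, hF, ← Nat.modEq_iff_dvd' (Nat.one_le_pow _ _ (Nat.prime_iff.2 hr).pos)]
    rw [Nat.ModEq, hm1, Nat.one_mod_eq_one.2 hp.ne_one]
  obtain ⟨u, hu⟩ := exists_prime_orderOf_dvd_card' p hdvd
  let φ : Subgroup.zpowers u →* MulAut (Multiplicative F) :=
    { toFun := fun x => AddEquiv.toMultiplicative (AddAut.mulLeft (x : Fˣ))
      map_one' := by ext; simp; rfl
      map_mul' := by intros; ext; simp [mul_assoc]; rfl }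
  let H := SemidirectProduct (Multiplicative F) (Subgroup.zpowers u) φ
  haveI : Finite H := Finite.of_equiv _ SemidirectProduct.equivProd.symm
  have hH : Nat.card H = p * r ^ e := by
    rw [SemidirectProduct.card, Nat.card_zpowers, hu, mul_comm]
    congr 1
  refine ⟨H, inferInstance, inferInstance, hH, fun hcl => ?_⟩
  let R : Subgroup H := (SemidirectProduct.inr : Subgroup.zpowers u →* H).range
  have hR : Nat.card R = p := by
    have h : Nat.card R = Nat.card (Subgroup.zpowers u) :=
      (Nat.card_congr (MonoidHom.ofInjective SemidirectProduct.inr_injective).toEquiv).symm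
    rw [h, Nat.card_zpowers, hu]
  obtain ⟨P, hP⟩ := (IsPGroup.of_card (hR.trans (pow_one p).symm)).exists_le_sylow
  have hPR : R = (P : Subgroup H) := by
    refine Subgroup.eq_of_le_of_card_ge hP ?_
    rw [hR, P.card_eq_multiplicity, hH, Nat.factorization_mul hp.ne_zero (pow_ne_zero _ hr.ne_zero),
      Finsupp.add_apply, hp.factorization_self, Nat.factorization_eq_zero_of_not_dvd, add_zero, pow_one]
    intro hd
    rw [Nat.dvd_iff_mod_eq_zero, hm1] at hd
    omega
  have hn : R.Normal := hPR ▸ hcl P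
  have hmem := hn.conj_mem _ (⟨⟨u, Subgroup.mem_zpowers u⟩, rfl⟩ :
    (SemidirectProduct.inr ⟨u, Subgroup.mem_zpowers u⟩ : H) ∈ R) (SemidirectProduct.inl (Multiplicative.ofAdd (1 : F)))
  obtain ⟨x, hx⟩ := hmem
  have hl : (SemidirectProduct.inr x : SemidirectProduct (Multiplicative F) (Subgroup.zpowers u) φ).left =
      Multiplicative.ofAdd (1 : F) * φ ⟨u, Subgroup.mem_zpowers u⟩ (Multiplicative.ofAdd (1 : F))⁻¹ := by
    rw [hx, SemidirectProduct.mul_left, SemidirectProduct.mul_left, SemidirectProduct.inv_left,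
      SemidirectProduct.mul_right, SemidirectProduct.left_inl, SemidirectProduct.right_inl,
      SemidirectProduct.left_inr, SemidirectProduct.right_inr]
    simp
    exact (map_inv (φ ⟨u, Subgroup.mem_zpowers u⟩) _).symm
  simp [φ] at hl
  have hu1 : u = 1 := by
    ext
    have := congrArg Multiplicative.toAdd hl
    change (0 : F) = _ at this
    simp at this
    change (0 : F) = 1 + -((u : F) * 1) at this
    rw [Units.val_one]
    linear_combination this
  rw [hu1, orderOf_one] at hu
  exact hp.ne_one hu.symm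

theorem psl_example (hp5 : 5 ≤ p) :
    ∃ (H : Type) (_ : Group H) (_ : Finite H), Nat.card H = p * (p ^ 2 - 1) / 2 ∧ ¬ IsPClosed p H := by
  classical
  have hp : p.Prime := Fact.out
  let G := Matrix.ProjectiveSpecialLinearGroup (Fin 2) (ZMod p)
  have hcard : Nat.card G = p * (p ^ 2 - 1) / 2 := by
    have h := SL2.card_PSL_mul (ZMod p)
    rw [SL2.card_center_eq_gcd, ZMod.card] at h
    have hodd : Nat.gcd 2 (p - 1) = 2 := Nat.gcd_eq_left (by
      have := hp.eq_two_or_odd
      omega)
    rw [hodd] at h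
    change Nat.card G * 2 = _ at h
    rw [← h, Nat.mul_div_cancel _ (by norm_num)]
  refine ⟨G, inferInstance, inferInstance, hcard, fun hcl => ?_⟩
  haveI : IsSimpleGroup G := by
    refine CfsgLib.SLn.isSimpleGroup_PSL (Or.inr ⟨2, ?_, ?_⟩)
    · intro h
      have h' : ((2 : ℕ) : ZMod p) = 0 := by exact_mod_cast h
      rw [ZMod.natCast_eq_zero_iff] at h'
      exact absurd (Nat.le_of_dvd (by norm_num) h') (by omega)
    · intro h
      have h' : ((3 : ℕ) : ZMod p) = 0 := by
        push_cast
        linear_combination h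
      rw [ZMod.natCast_eq_zero_iff] at h'
      exact absurd (Nat.le_of_dvd (by norm_num) h') (by omega)
  obtain ⟨P⟩ : Nonempty (Sylow p G) := inferInstance
  have hdvd : p ∣ Nat.card G := by
    have h := SL2.card_PSL_mul (ZMod p)
    rw [ZMod.card] at h
    rcases hp.dvd_mul.1 (h ▸ dvd_mul_right p _) with h' | h'
    · exact h'
    · rw [SL2.card_center_eq_gcd] at h'
      exact absurd (Nat.le_of_dvd (by norm_num) (h'.trans (Nat.gcd_dvd_left _ _))) (by omega)
  rcases IsSimpleGroup.eq_bot_or_eq_top_of_normal (P : Subgroup G) (hcl P) with h | h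
  · have h1 := P.dvd_card_of_dvd_card hdvd
    rw [h, Subgroup.card_bot, Nat.dvd_one] at h1
    exact hp.ne_one h1
  · obtain ⟨a, ha⟩ := P.isPGroup'.exists_card_eq
    rw [h, Subgroup.card_top, hcard] at ha
    have h8 : 2 ∣ p * (p ^ 2 - 1) / 2 := by
      have hodd : p % 2 = 1 := (hp.eq_two_or_odd).resolve_left (by omega)
      obtain ⟨s, rfl⟩ : ∃ s, p = 2 * s + 1 := ⟨p / 2, by omega⟩
      rw [show (2 * s + 1) ^ 2 = 4 * (s * s + s) + 1 by ring, Nat.add_sub_cancel,
        show (2 * s + 1) * (4 * (s * s + s)) = 2 * ((2 * s + 1) * (s * s + s) * 2) by ring,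
        Nat.mul_div_cancel_left _ (by norm_num)]
      exact dvd_mul_left 2 _
    rw [ha] at h8
    have := (Nat.prime_dvd_prime_iff_eq Nat.prime_two hp).1 (Nat.prime_two.dvd_of_dvd_pow h8)
    omega

theorem least_order (hp2 : p ≠ 2) (m : ℕ) (hm : IsPrimePow m) (hm1 : m % p = 1)
    (hleast : ∀ k : ℕ, IsPrimePow k → k % p = 1 → m ≤ k) :
    (∀ (H : Type) [Group H] [Finite H], ¬ IsPClosed p H → min (p * m) (p * (p ^ 2 - 1) / 2) ≤ Nat.card H) ∧
      ∃ (H : Type) (_ : Group H) (_ : Finite H),
        Nat.card H = min (p * m) (p * (p ^ 2 - 1) / 2) ∧ ¬ IsPClosed p H := by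
  have hp : p.Prime := Fact.out
  refine ⟨fun H _ _ hH => not_lt.1 fun hlt => hH (lower_bound hp2 hleast _ H rfl hlt), ?_⟩
  rcases Nat.lt_or_ge (p * (p ^ 2 - 1) / 2) (p * m) with h | h
  · rw [min_eq_right h.le]
    refine psl_example ?_
    by_contra h5
    have hp3 : p = 3 := by
      have := hp.two_le
      have : p ≠ 4 := fun e => by rw [e] at hp; norm_num at hp
      omega
    subst hp3
    have := hleast 4 ⟨2, 2, Nat.prime_iff.1 Nat.prime_two, by norm_num, by norm_num⟩ (by norm_num)
    norm_num at h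
    omega
  · rw [min_eq_left h]
    exact affine_example hm hm1

end CfsgLib.BrauerReynolds
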